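import Groth.Agent.SemiFact.K474.Tower
import Groth.Agent.SDiv.K474.FittLoc

/-!
# Termination of the tower along closures of points of the generic fibre
-/

set_option autoImplicit false
universe u

open CategoryTheory CategoryTheory.Limits AlgebraicGeometry IsLocalRing BlowUp

namespace Groth.Agent.SemiFact.K474.Bound

open PullIdeal Center Tower K793.Chart Groth.Agent.Divis.IdealComap

section

variable {X : Scheme.{u}} {T : Type u} [CommRing T]

theorem pl_eq_map (F : X.IdealSheafData) (t : Spec (CommRingCat.of T) ⟶ X) (U : X.affineOpens)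
    (e : (⊤ : (Spec (CommRingCat.of T)).Opens) ≤ t ⁻¹ᵁ U.1) :
    pl F t = (F.ideal U).map ((Scheme.ΓSpecIso (CommRingCat.of T)).hom.hom.comp (t.appLE U.1 ⊤ e).hom) := by
  rw [pl, ideal_comap F t U ⟨⊤, isAffineOpen_top _⟩ e, Ideal.map_map]

/-- the structure map on an open subset -/
noncomputable def strU {R : Type u} [CommRing R] (f : X ⟶ Spec (CommRingCat.of R)) (U : X.Opens) : R →+* Γ(X, U) :=
  (f.appLE ⊤ U le_top).hom.comp (Scheme.ΓSpecIso (CommRingCat.of R)).inv.hom

theorem strU_comp {R : Type u} [CommRing R] (f : X ⟶ Spec (CommRingCat.of R)) (U : X.Opens)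
    (t : Spec (CommRingCat.of T) ⟶ X) (e : (⊤ : (Spec (CommRingCat.of T)).Opens) ≤ t ⁻¹ᵁ U) (ρ : R →+* T)
    (h : t ≫ f = Spec.map (CommRingCat.ofHom ρ)) (r : R) :
    ((Scheme.ΓSpecIso (CommRingCat.of T)).hom.hom.comp (t.appLE U ⊤ e).hom) (strU f U r) = ρ r := by
  have h1 : (Scheme.ΓSpecIso (CommRingCat.of R)).inv ≫ f.appLE ⊤ U le_top ≫ t.appLE U ⊤ e ≫
      (Scheme.ΓSpecIso (CommRingCat.of T)).hom = CommRingCat.ofHom ρ := by
    rw [← Category.assoc (f.appLE ⊤ U le_top), Scheme.Hom.appLE_comp_appLE]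
    have h2 : (t ≫ f).appLE ⊤ ⊤ le_top = (Spec.map (CommRingCat.ofHom ρ)).appTop := by
      simp only [h]
      exact Scheme.Hom.appLE_eq_app _
    have h3 := Scheme.ΓSpecIso_naturality (CommRingCat.ofHom ρ)
    rw [Iso.inv_comp_eq, ← h3]
    congr 1
  exact congr($(congrArg CommRingCat.Hom.hom h1) r)

/-- If `f` is in every point of `U ∩ C ∩ V(F)` in the special fibre, a power of the uniformizer lies in `F + I_C`. -/
theorem exists_pow_mem {R : Type u} [CommRing R] [IsLocalRing R] (f : X ⟶ Spec (CommRingCat.of R)) (F G : X.IdealSheafData)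
    (h : ∀ x, x ∈ F.support → x ∈ G.support → f x = (closedPoint R : PrimeSpectrum R)) (ϖ : R)
    (hϖ : ϖ ∈ maximalIdeal R) (U : X.affineOpens) :
    ∃ n : ℕ, strU f U.1 ϖ ^ n ∈ F.ideal U ⊔ G.ideal U := by
  have h1 : strU f U.1 ϖ ∈ (F.ideal U ⊔ G.ideal U).radical := by
    rw [Ideal.radical_eq_sInf, Ideal.mem_sInf]
    rintro q ⟨hq, hqp⟩
    let x : X := U.2.fromSpec ⟨q, hqp⟩
    have hxU : x ∈ U.1 := by
      have := U.2.range_fromSpec
      have h2 : x ∈ Set.range U.2.fromSpec := ⟨_, rfl⟩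
      rw [this] at h2
      exact h2
    have hq' : U.2.primeIdealOf ⟨x, hxU⟩ = ⟨q, hqp⟩ := by
      apply U.2.fromSpec.isOpenEmbedding.injective
      rw [U.2.fromSpec_primeIdealOf]
    have hF : x ∈ F.support := by
      rw [Groth.Agent.SDiv.K474.FittLoc.mem_support_iff_le F U.2 hxU, hq']
      exact le_sup_left.trans hq
    have hG : x ∈ G.support := by
      rw [Groth.Agent.SDiv.K474.FittLoc.mem_support_iff_le G U.2 hxU, hq']
      exact le_sup_right.trans hq
    have hx := h x hF hG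
    by_contra hn
    have h2 : x ∈ X.basicOpen (strU f U.1 ϖ) := by
      have h3 := U.2.fromSpec_preimage_basicOpen (strU f U.1 ϖ)
      have h4 : (⟨q, hqp⟩ : PrimeSpectrum Γ(X, U.1)) ∈ U.2.fromSpec ⁻¹ᵁ X.basicOpen (strU f U.1 ϖ) := by
        rw [h3]
        exact hn
      exact h4
    have h5 : X.basicOpen (strU f U.1 ϖ) ≤ f ⁻¹ᵁ (PrimeSpectrum.basicOpen ϖ) := by
      intro y hy
      have h6 : strU f U.1 ϖ = (f.appLE ⊤ U.1 le_top).hom ((Scheme.ΓSpecIso (CommRingCat.of R)).inv.hom ϖ) := rfl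
      have h7 := Scheme.Hom.preimage_basicOpen f (U := ⊤) ((Scheme.ΓSpecIso (CommRingCat.of R)).inv.hom ϖ)
      rw [h6, Scheme.basicOpen_appLE] at hy
      have h8 : y ∈ f ⁻¹ᵁ ((Spec (CommRingCat.of R)).basicOpen ((Scheme.ΓSpecIso (CommRingCat.of R)).inv.hom ϖ)) := hy.2
      rw [basicOpen_eq_of_affine'] at h8
      simpa using h8
    have h9 : f x ∈ PrimeSpectrum.basicOpen ϖ := h5 h2
    rw [hx] at h9
    exact h9 hϖ
  obtain ⟨n, hn⟩ := h1
  exact ⟨n, hn⟩

/-- A uniform bound on the power of the uniformizer in the ideals induced by `F` along morphisms from spectra of local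
domains with generic point in a closed subset on which `F` vanishes only in the special fibre. -/
theorem exists_bound [CompactSpace X] {R : Type u} [CommRing R] [IsLocalRing R] (f : X ⟶ Spec (CommRingCat.of R))
    (F : X.IdealSheafData) (C : TopologicalSpace.Closeds X)
    (h : ∀ x, x ∈ F.support → x ∈ C → f x = (closedPoint R : PrimeSpectrum R)) (ϖ : R) (hϖ : ϖ ∈ maximalIdeal R) :
    ∃ N : ℕ, ∀ (V : Type u) [CommRing V] [IsDomain V] [IsLocalRing V] (ρ : R →+* V) (a : Spec (CommRingCat.of V) ⟶ X),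
      a ≫ f = Spec.map (CommRingCat.ofHom ρ) → a (⊥ : PrimeSpectrum V) ∈ C → ρ ϖ ^ N ∈ pl F a := by
  let G := Scheme.IdealSheafData.vanishingIdeal C
  have hG : ∀ x, x ∈ G.support ↔ x ∈ C := by
    intro x
    have h1 := Scheme.IdealSheafData.coe_support_vanishingIdeal (X := X) C
    constructor
    · intro hx
      have h2 : x ∈ (G.support : Set X) := hx
      rw [h1] at h2
      exact h2
    · intro hx
      have h2 : x ∈ (C : Set X) := hx
      rw [← h1] at h2
      exact h2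
  obtain ⟨s, hs, hs'⟩ := (isCompact_and_isOpen_iff_finite_and_eq_biUnion_affineOpens (X := X) (U := Set.univ)).1 ⟨isCompact_univ, isOpen_univ⟩
  have h1 : ∀ U : X.affineOpens, ∃ n : ℕ, strU f U.1 ϖ ^ n ∈ F.ideal U ⊔ G.ideal U := fun U =>
    exists_pow_mem f F G (fun x hx hx' => h x hx ((hG x).1 hx')) ϖ hϖ U
  choose n hn using h1
  refine ⟨∑ U ∈ hs.toFinset, n U, fun V _ _ _ ρ a ha hC => ?_⟩
  have h2 : a (closedPoint V) ∈ (⋃ i ∈ s, (i : Set X)) := by
    rw [← hs']
    trivial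
  obtain ⟨U, hU, hUc⟩ := Set.mem_iUnion₂.1 h2
  have e : (⊤ : (Spec (CommRingCat.of V)).Opens) ≤ a ⁻¹ᵁ U.1 := by
    intro z _
    have h3 : z ⤳ closedPoint V := specializes_closedPoint z
    exact (h3.map a.continuous).mem_open U.1.isOpen hUc
  set θ : Γ(X, U.1) →+* V := (Scheme.ΓSpecIso (CommRingCat.of V)).hom.hom.comp (a.appLE U.1 ⊤ e).hom with hθ
  have h4 : (G.ideal U).map θ = ⊥ := by
    rw [← pl_eq_map G a U e, eq_bot_iff]
    exact (mem_support_iff G a (⊥ : PrimeSpectrum V)).1 ((hG _).2 hC)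
  have h5 : θ (strU f U.1 ϖ ^ n U) ∈ (F.ideal U).map θ := by
    have := Ideal.mem_map_of_mem θ (hn U)
    rwa [Ideal.map_sup, h4, sup_bot_eq] at this
  rw [map_pow, hθ, strU_comp f U.1 a e ρ ha, ← pl_eq_map F a U e] at h5
  have h6 : n U ≤ ∑ U ∈ hs.toFinset, n U := Finset.single_le_sum (fun _ _ => Nat.zero_le _) (hs.mem_toFinset.2 hU)
  rw [← Nat.sub_add_cancel h6, pow_add]
  exact Ideal.mul_mem_left _ _ h5

/-- A specialization is realized by a morphism from the spectrum of a local domain. -/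
theorem exists_local_domain {P q : X} (h : P ⤳ q) : ∃ (V : Type u) (_ : CommRing V) (_ : IsDomain V) (_ : IsLocalRing V)
    (a : Spec (CommRingCat.of V) ⟶ X), a (closedPoint V) = q ∧ a (⊥ : PrimeSpectrum V) = P := by
  have h1 : P ∈ Set.range (X.fromSpecStalk q) := by
    rw [Scheme.range_fromSpecStalk]
    exact h
  obtain ⟨z, hz⟩ := h1
  let V := X.presheaf.stalk q ⧸ z.asIdeal
  have hloc : IsLocalRing V := IsLocalRing.of_surjective' (Ideal.Quotient.mk z.asIdeal) Ideal.Quotient.mk_surjective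
  refine ⟨V, inferInstance, inferInstance, hloc, Spec.map (CommRingCat.ofHom (Ideal.Quotient.mk z.asIdeal)) ≫
    X.fromSpecStalk q, ?_, ?_⟩
  · have h2 : (Spec.map (CommRingCat.ofHom (Ideal.Quotient.mk z.asIdeal))) (closedPoint V) =
        closedPoint (X.presheaf.stalk q) := by
      apply PrimeSpectrum.ext
      have h3 : ((maximalIdeal V).comap (Ideal.Quotient.mk z.asIdeal)).IsMaximal :=
        Ideal.comap_isMaximal_of_surjective _ Ideal.Quotient.mk_surjective
      exact IsLocalRing.eq_maximalIdeal h3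
    exact (congrArg (X.fromSpecStalk q) h2).trans Scheme.fromSpecStalk_closedPoint
  · have h2 : (Spec.map (CommRingCat.ofHom (Ideal.Quotient.mk z.asIdeal))) (⊥ : PrimeSpectrum V) = z := by
      apply PrimeSpectrum.ext
      change (⊥ : Ideal V).comap (Ideal.Quotient.mk z.asIdeal) = z.asIdeal
      rw [← RingHom.ker_eq_comap_bot, Ideal.mk_ker]
    exact (congrArg (X.fromSpecStalk q) h2).trans hz

end

end Groth.Agent.SemiFact.K474.Bound
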