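import Groth.Agent.SemiFact.K474.Step

/-!
# The non-regular points of the special fibre of a nodal family, and their blow-up

The set of non-regular points of the special fibre is closed and discrete; its blow-up is again a nodal family.
-/

set_option autoImplicit false
universe u

open CategoryTheory CategoryTheory.Limits AlgebraicGeometry IsLocalRing BlowUp

namespace Groth.Agent.SemiFact.K474.Center

open Groth.Agent.Divis.BlowChart Groth.Agent.Divis.IdealComap PullIdeal FitNode FitSpec LocDrop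
open Groth.Agent.Models.NodeRing Groth.Agent.Models.NodeBlow Groth.Agent.Models.NodeStep K793.Chart Groth.Agent.Models

variable {R : Type u} [CommRing R]

/-- The support of the first Fitting ideal of the differentials in a chart. -/
theorem mem_support_iff_chart {ϖ : R} {X : Scheme.{u}} {p : X ⟶ Spec (CommRingCat.of R)} {x : X} [QuasiSeparated p]
    [LocallyOfFiniteType p] (C : NChart R ϖ p x) (z : C.U) :
    C.e z ∈ (Fitt.sheafIdeal (Omega.sheaf p) 1).support ↔
      uu C.D C.a ∈ (C.g z).asIdeal ∧ vv C.D C.a ∈ (C.g z).asIdeal := by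
  obtain ⟨V, hV, hz, -⟩ := exists_isAffineOpen_mem_and_subset (x := z) (U := ⊤) trivial
  have : IsAffine V.toScheme := hV
  have h1 := comap_chart p (V.ι ≫ C.e) C.D (W C.D C.a) (V.ι ≫ C.g)
    (Spec.map (CommRingCat.ofHom (algebraMap R C.D))) (by
      rw [Category.assoc, Category.assoc]
      exact congrArg (fun t => V.ι ≫ t) C.w) 1
  have h2 : (⟨z, hz⟩ : V) ∈ ((Fitt.sheafIdeal (Omega.sheaf p) 1).comap (V.ι ≫ C.e)).support ↔
      (⟨z, hz⟩ : V) ∈ ((idl (Fitt.ideal (W C.D C.a) (KaehlerDifferential C.D (W C.D C.a)) 1)).comap (V.ι ≫ C.g)).support := by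
    rw [h1]
  rw [Scheme.IdealSheafData.support_comap, Scheme.IdealSheafData.support_comap, fitt_one] at h2
  refine Iff.trans h2 ?_
  refine (mem_support_idl _ (C.g z)).trans ?_
  rw [Ideal.span_le, Set.insert_subset_iff, Set.singleton_subset_iff]
  rfl

/-- The points of the special fibre in the support of the first Fitting ideal of the differentials. -/
def sing {X : Scheme.{u}} [IsLocalRing R] (p : X ⟶ Spec (CommRingCat.of R)) : Set X :=
  {x | p x = closedPoint R ∧ x ∈ (Fitt.sheafIdeal (Omega.sheaf p) 1).support}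

/-- The non-regular points of the special fibre. -/
def nreg {X : Scheme.{u}} [IsLocalRing R] (p : X ⟶ Spec (CommRingCat.of R)) : Set X :=
  {x | p.base x = closedPoint R ∧ ¬ IsRegularLocalRing (X.presheaf.stalk x)}

theorem isClosed_sing {X : Scheme.{u}} [IsLocalRing R] (p : X ⟶ Spec (CommRingCat.of R)) : IsClosed (sing p) := by
  have h1 : IsClosed ({(closedPoint R : PrimeSpectrum R)} : Set (PrimeSpectrum R)) := by
    rw [PrimeSpectrum.isClosed_singleton_iff_isMaximal]
    exact IsLocalRing.maximalIdeal.isMaximal R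
  exact (h1.preimage p.continuous).inter (Fitt.sheafIdeal (Omega.sheaf p) 1).support.isClosed

variable [IsDomain R] [IsDiscreteValuationRing R]

theorem nreg_subset_sing {X : Scheme.{u}} [IsLocallyNoetherian X] (p : X ⟶ Spec (CommRingCat.of R)) [QuasiSeparated p]
    [LocallyOfFiniteType p] (hp : Curv2.IsNodalFamily p) : nreg p ⊆ sing p := by
  obtain ⟨ϖ, hϖ⟩ := IsDiscreteValuationRing.exists_irreducible R
  rintro x ⟨hx, hreg⟩
  obtain ⟨C⟩ := exists_nchart hϖ p hp x hx
  refine ⟨hx, ?_⟩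
  have h1 := (mem_support_iff_chart C C.y).2 ⟨C.uu_mem hreg, C.vv_mem hreg⟩
  rwa [C.hy] at h1

theorem exists_nhd_sing {X : Scheme.{u}} [IsLocallyNoetherian X] (p : X ⟶ Spec (CommRingCat.of R)) [QuasiSeparated p]
    [LocallyOfFiniteType p] (hp : Curv2.IsNodalFamily p) (x : X) (hx : x ∈ sing p) :
    ∃ U : X.Opens, x ∈ U ∧ ∀ z ∈ U, z ∈ sing p → z = x := by
  obtain ⟨ϖ, hϖ⟩ := IsDiscreteValuationRing.exists_irreducible R
  obtain ⟨C⟩ := exists_nchart hϖ p hp x hx.1
  have key : ∀ z : C.U, C.e z ∈ sing p → (C.g z).asIdeal = Ideal.span {uu C.D C.a, vv C.D C.a, algebraMap C.D _ C.t} := by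
    rintro z ⟨h1, h2⟩
    rw [mem_support_iff_chart] at h2
    exact eq_span_of_mem C.D C.t C.irr _ h2.1 h2.2 ((C.t_mem_iff hϖ z).2 h1)
  obtain ⟨V, hyV, -, h2⟩ := C.exists_shrink
  refine ⟨⟨C.e '' V, C.e.isOpenMap _ V.isOpen⟩, ⟨C.y, hyV, C.hy⟩, ?_⟩
  rintro _ ⟨z, hz, rfl⟩ hs
  have h3 : C.g z = C.g C.y := by
    apply PrimeSpectrum.ext
    refine (key z hs).trans (key C.y ?_).symm
    rw [C.hy]
    exact hx
  rw [h2 z hz h3, C.hy]

theorem closure_nreg {X : Scheme.{u}} [IsLocallyNoetherian X] (p : X ⟶ Spec (CommRingCat.of R)) [QuasiSeparated p]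
    [LocallyOfFiniteType p] (hp : Curv2.IsNodalFamily p) : closure (nreg p) = nreg p := by
  refine (Set.Subset.antisymm (fun z hz => ?_) subset_closure)
  have hzs : z ∈ sing p := closure_minimal (nreg_subset_sing p hp) (isClosed_sing p) hz
  obtain ⟨U, hzU, hU⟩ := exists_nhd_sing p hp z hzs
  obtain ⟨w, hw1, hw2⟩ := mem_closure_iff.1 hz U U.isOpen hzU
  rwa [← hU w hw1 (nreg_subset_sing p hp hw2)]

theorem exists_nhd_nreg {X : Scheme.{u}} [IsLocallyNoetherian X] (p : X ⟶ Spec (CommRingCat.of R)) [QuasiSeparated p]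
    [LocallyOfFiniteType p] (hp : Curv2.IsNodalFamily p) (x : X) (hx : x ∈ nreg p) :
    ∃ U : X.Opens, x ∈ U ∧ ∀ z ∈ U, z ∈ (⟨closure (nreg p), isClosed_closure⟩ : TopologicalSpace.Closeds X) ↔ z = x := by
  obtain ⟨U, hxU, hU⟩ := exists_nhd_sing p hp x (nreg_subset_sing p hp hx)
  refine ⟨U, hxU, fun z hz => ?_⟩
  change z ∈ closure (nreg p) ↔ z = x
  rw [closure_nreg p hp]
  exact ⟨fun h => hU z hz (nreg_subset_sing p hp h), fun h => h ▸ hx⟩

omit [CommRing R] [IsDomain R] [IsDiscreteValuationRing R] in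
theorem isBlowUp_restrict {X : Scheme.{u}} [IsLocallyNoetherian X] (Z : TopologicalSpace.Closeds X) (x : X) (U : X.Opens)
    (hxU : x ∈ U) (hU : ∀ z ∈ U, z ∈ Z ↔ z = x) {X' : Scheme.{u}} (b : X' ⟶ X)
    (hb : IsBlowUp b (Scheme.IdealSheafData.vanishingIdeal Z)) :
    ∃ hxc : IsClosed ({⟨x, hxU⟩} : Set U.toScheme),
      IsBlowUp (pullback.fst U.ι b) (Scheme.IdealSheafData.vanishingIdeal ⟨{⟨x, hxU⟩}, hxc⟩) := by
  have hxc : IsClosed ({⟨x, hxU⟩} : Set U.toScheme) := by
    have h1 : ({⟨x, hxU⟩} : Set U.toScheme) = U.ι ⁻¹' (Z : Set X) := by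
      ext z
      rw [Set.mem_singleton_iff, Set.mem_preimage, SetLike.mem_coe]
      refine Iff.trans ?_ (hU _ z.2).symm
      exact ⟨fun h => by rw [h], fun h => Subtype.ext h⟩
    rw [h1]
    exact Z.isClosed.preimage U.ι.continuous
  refine ⟨hxc, ?_⟩
  have h1 := Groth.Agent.S1680.result U.ι _ b hb
  rw [EtRadical.comap_vanishingIdeal U.ι] at h1
  have h2 : Z.preimage U.ι.continuous = ⟨{⟨x, hxU⟩}, hxc⟩ := by
    ext z
    simp only [TopologicalSpace.Closeds.coe_preimage, Set.mem_preimage, SetLike.mem_coe,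
      TopologicalSpace.Closeds.coe_mk, Set.mem_singleton_iff]
    refine (hU _ z.2).trans ?_
    exact ⟨fun h => Subtype.ext h, fun h => by rw [h]⟩
  rwa [h2] at h1

/-- **The blow-up of the non-regular points of the special fibre of a nodal family is a nodal family.** -/
theorem isNodalFamily_blowUp {X : Scheme.{u}} [IsLocallyNoetherian X] (p : X ⟶ Spec (CommRingCat.of R))
    [QuasiSeparated p] [LocallyOfFiniteType p] (hp : Curv2.IsNodalFamily p) {X' : Scheme.{u}} (b : X' ⟶ X)
    (hb : IsBlowUp b (Scheme.IdealSheafData.vanishingIdeal ⟨closure (nreg p), isClosed_closure⟩)) :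
    Curv2.IsNodalFamily (b ≫ p) := by
  apply isNodalFamily_of_forall
  intro x'
  by_cases h : b x' ∈ closure (nreg p)
  · rw [closure_nreg p hp] at h
    obtain ⟨U, hxU, hU⟩ := exists_nhd_nreg p hp _ h
    obtain ⟨hxc, hbU⟩ := isBlowUp_restrict _ _ U hxU hU b hb
    have hregU : ¬ IsRegularLocalRing (U.toScheme.presheaf.stalk (⟨b x', hxU⟩ : U.toScheme)) := by
      intro h1
      exact h.2 ((Groth.Agent.S0065.result U.ι (⟨b x', hxU⟩ : U.toScheme)).1 h1)
    have h2 := K793.Chart.isNodalFamily_blowUp R (U.ι ≫ p) (Groth.Agent.S1592.result p hp U.ι) ⟨b x', hxU⟩ h.1 hxc hregU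
      (pullback.fst U.ι b) hbU
    refine ⟨pullback U.ι b, pullback.snd U.ι b, inferInstance, ?_, ?_⟩
    · obtain ⟨q, -, hq⟩ := Scheme.Pullback.exists_preimage_pullback (f := U.ι) (g := b) ⟨b x', hxU⟩ x' rfl
      exact ⟨q, hq⟩
    · rwa [← Category.assoc, pullback.condition, Category.assoc] at h2
  · let I := Scheme.IdealSheafData.vanishingIdeal (X := X) ⟨closure (nreg p), isClosed_closure⟩
    obtain ⟨r, hr, hrb⟩ := Groth.Agent.Ega2.BlowBasic.exists_isIso_offSupport hb
    refine ⟨_, (Groth.Agent.Ega2.BlowBasic.offSupport (I.comap b)).ι, inferInstance, ?_, ?_⟩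
    · rw [Scheme.Opens.range_ι]
      change x' ∉ (I.comap b).support
      rw [Scheme.IdealSheafData.support_comap]
      change b x' ∉ I.support
      rw [← SetLike.mem_coe, Scheme.IdealSheafData.coe_support_vanishingIdeal]
      exact h
    · rw [← Category.assoc, ← hrb, Category.assoc]
      exact Groth.Agent.S1592.result _ (Groth.Agent.S1592.result p hp _) r

end Groth.Agent.SemiFact.K474.Center
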