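import Groth.Agent.SemiFact.K474.Center
import Groth.Agent.Flat2C.BlowProper
import Groth.Agent.Flat2C.BlowExist
import Groth.Agent.Models.DVRGeneric
import Groth.Prelude.Def_CInt
import Groth.Prelude.Def_Neron

/-!
# The tower of blow-ups of the non-regular points of the special fibre
-/

set_option autoImplicit false
universe u

open CategoryTheory CategoryTheory.Limits AlgebraicGeometry IsLocalRing BlowUp

namespace Groth.Agent.SemiFact.K474.Tower

open Center K793.Chart

theorem baseChangeOver_fst {X X' S S₁ : Scheme.{u}} (b : X' ⟶ X) (g : X ⟶ S) (s : S₁ ⟶ S) :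
    CInt.baseChangeOver b g s ≫ pullback.fst g s = pullback.fst (b ≫ g) s ≫ b := pullback.lift_fst _ _ _

theorem baseChangeOver_snd {X X' S S₁ : Scheme.{u}} (b : X' ⟶ X) (g : X ⟶ S) (s : S₁ ⟶ S) :
    CInt.baseChangeOver b g s ≫ pullback.snd g s = pullback.snd (b ≫ g) s :=
  (pullback.lift_snd _ _ _).trans (Category.comp_id _)

theorem isPullback_baseChangeOver {X X' S S₁ : Scheme.{u}} (b : X' ⟶ X) (g : X ⟶ S) (s : S₁ ⟶ S) :
    IsPullback (pullback.fst (b ≫ g) s) (CInt.baseChangeOver b g s) b (pullback.fst g s) := by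
  refine IsPullback.of_bot (h₃₁ := s) (v₂₁ := pullback.snd g s) (v₂₂ := g) ?_ (baseChangeOver_fst b g s).symm
    (IsPullback.of_hasPullback g s)
  rw [baseChangeOver_snd]
  exact IsPullback.of_hasPullback (b ≫ g) s

theorem isIso_baseChangeOver_comp {A B X S S₁ : Scheme.{u}} (b : A ⟶ B) (c : B ⟶ X) (f : X ⟶ S) (s : S₁ ⟶ S)
    (h1 : IsIso (CInt.baseChangeOver b (c ≫ f) s)) (h2 : IsIso (CInt.baseChangeOver c f s)) :
    IsIso (CInt.baseChangeOver (b ≫ c) f s) := by
  have h3 : CInt.baseChangeOver (b ≫ c) f s = (pullback.congrHom (Category.assoc b c f) rfl).hom ≫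
      CInt.baseChangeOver b (c ≫ f) s ≫ CInt.baseChangeOver c f s := by
    have e1 := baseChangeOver_fst b (c ≫ f) s
    have e2 := baseChangeOver_fst c f s
    have e3 := baseChangeOver_snd b (c ≫ f) s
    have e4 := baseChangeOver_snd c f s
    have e5 : (pullback.congrHom (Category.assoc b c f) (rfl : s = s)).hom ≫ pullback.fst (b ≫ c ≫ f) s =
        pullback.fst ((b ≫ c) ≫ f) s := by
      rw [pullback.congrHom_hom]
      exact (pullback.lift_fst _ _ _).trans (Category.comp_id _)
    have e6 : (pullback.congrHom (Category.assoc b c f) (rfl : s = s)).hom ≫ pullback.snd (b ≫ c ≫ f) s =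
        pullback.snd ((b ≫ c) ≫ f) s := by
      rw [pullback.congrHom_hom]
      exact (pullback.lift_snd _ _ _).trans (Category.comp_id _)
    apply pullback.hom_ext
    · rw [baseChangeOver_fst]
      simp only [Category.assoc]
      rw [e2, reassoc_of% e1, reassoc_of% e5]
    · rw [baseChangeOver_snd]
      simp only [Category.assoc]
      rw [e4, e3, e6]
  rw [h3]
  infer_instance

/-- The base change of a blow-up along a flat morphism missing the centre is an isomorphism. -/
theorem isIso_of_comap_eq_top {Y Y' Z Z' : Scheme.{u}} {b : Y' ⟶ Y} {I : Y.IdealSheafData} (hb : IsBlowUp b I)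
    (j : Z ⟶ Y) [Flat j] (hj : I.comap j = ⊤) {t : Z' ⟶ Z} {j' : Z' ⟶ Y'} (H : IsPullback j' t b j) : IsIso t := by
  have h1 := Groth.Agent.S1680.result j _ b hb
  rw [hj] at h1
  obtain ⟨θ, hθ, -⟩ := Groth.Agent.Flat2C.BlowProper.exists_iso h1 (Groth.Agent.Models.NodeStep.isBlowUp_id_top Z)
  have h2 : IsIso (pullback.fst j b) := by
    rw [Category.comp_id] at hθ
    rw [← hθ]
    infer_instance
  have h3 : t = (H.flip.isoPullback).hom ≫ pullback.fst j b := by simp
  rw [h3]
  infer_instance

variable {R : Type u} [CommRing R] [IsDomain R] [IsDiscreteValuationRing R]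

instance flat_genPt : IsOpenImmersion (Neron.genPt R) :=
  Groth.Agent.Models.DVRGeneric.isOpenImmersion_generic R (FractionRing R)

theorem genPt_ne (z : Spec (CommRingCat.of (FractionRing R))) : Neron.genPt R z ≠ closedPoint R := by
  intro h
  have h1 : (z.asIdeal : Ideal (FractionRing R)).comap (algebraMap R (FractionRing R)) = maximalIdeal R :=
    congrArg PrimeSpectrum.asIdeal h
  obtain ⟨ϖ, hϖ⟩ := IsDiscreteValuationRing.exists_irreducible R
  have h2 : ϖ ∈ maximalIdeal R := by
    rw [hϖ.maximalIdeal_eq]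
    exact Ideal.mem_span_singleton_self ϖ
  rw [← h1, Ideal.mem_comap] at h2
  refine z.isPrime.ne_top (Ideal.eq_top_of_isUnit_mem _ h2 (IsUnit.mk0 _ ?_))
  rw [Ne, IsFractionRing.to_map_eq_zero_iff]
  exact hϖ.ne_zero

/-- The ideal of the non-regular points of the special fibre. -/
noncomputable def cen {Y : Scheme.{u}} (p : Y ⟶ Spec (CommRingCat.of R)) : Y.IdealSheafData :=
  Scheme.IdealSheafData.vanishingIdeal ⟨closure (nreg p), isClosed_closure⟩

theorem cen_comap_fst {Y : Scheme.{u}} [IsLocallyNoetherian Y] (p : Y ⟶ Spec (CommRingCat.of R)) [QuasiSeparated p]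
    [LocallyOfFiniteType p] (hp : Curv2.IsNodalFamily p) :
    (cen p).comap (pullback.fst p (Neron.genPt R)) = ⊤ := by
  apply Groth.Agent.Ega2.BlowBasic.comap_eq_top_of_range
  intro x hx
  change _ ∈ ((cen p).support : Set Y) at hx
  rw [cen, Scheme.IdealSheafData.coe_support_vanishingIdeal] at hx
  change _ ∈ closure (nreg p) at hx
  rw [closure_nreg p hp] at hx
  have h1 : p (pullback.fst p (Neron.genPt R) x) = Neron.genPt R (pullback.snd p (Neron.genPt R) x) := by
    rw [← Scheme.Hom.comp_apply, pullback.condition, Scheme.Hom.comp_apply]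
  exact genPt_ne _ (h1.symm.trans hx.1)

theorem isIso_baseChange {Y Y' : Scheme.{u}} [IsLocallyNoetherian Y] (p : Y ⟶ Spec (CommRingCat.of R)) [QuasiSeparated p]
    [LocallyOfFiniteType p] (hp : Curv2.IsNodalFamily p) (b : Y' ⟶ Y) (hb : IsBlowUp b (cen p)) :
    IsIso (CInt.baseChangeOver b p (Neron.genPt R)) :=
  isIso_of_comap_eq_top hb _ (cen_comap_fst p hp) (isPullback_baseChangeOver b p (Neron.genPt R))

/-- the next stage of the tower -/
noncomputable def nxt {Y : Scheme.{u}} (p : Y ⟶ Spec (CommRingCat.of R)) : Scheme.{u} :=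
  (Groth.Agent.Flat2C.BlowExist.exists_isBlowUp (cen p)).choose

noncomputable def nxtMap {Y : Scheme.{u}} (p : Y ⟶ Spec (CommRingCat.of R)) : nxt p ⟶ Y :=
  (Groth.Agent.Flat2C.BlowExist.exists_isBlowUp (cen p)).choose_spec.choose

theorem isBlowUp_nxtMap {Y : Scheme.{u}} (p : Y ⟶ Spec (CommRingCat.of R)) : IsBlowUp (nxtMap p) (cen p) :=
  (Groth.Agent.Flat2C.BlowExist.exists_isBlowUp (cen p)).choose_spec.choose_spec

variable {X : Scheme.{u}} (f : X ⟶ Spec (CommRingCat.of R))

/-- The tower of blow-ups of the non-regular points of the special fibre. -/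
noncomputable def tower : ℕ → Over X
  | 0 => Over.mk (𝟙 X)
  | n + 1 => Over.mk (nxtMap ((tower n).hom ≫ f) ≫ (tower n).hom)

/-- The transition morphisms. -/
noncomputable def bb (n : ℕ) : (tower f (n + 1)).left ⟶ (tower f n).left := nxtMap ((tower f n).hom ≫ f)

theorem bb_hom (n : ℕ) : bb f n ≫ (tower f n).hom = (tower f (n + 1)).hom := rfl

theorem isBlowUp_bb (n : ℕ) : IsBlowUp (bb f n) (cen ((tower f n).hom ≫ f)) := isBlowUp_nxtMap _

theorem props [IsProper f] (hf : Curv2.IsNodalFamily f) (n : ℕ) :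
    IsProper ((tower f n).hom ≫ f) ∧ Curv2.IsNodalFamily ((tower f n).hom ≫ f) := by
  induction n with
  | zero =>
    have h : (tower f 0).hom ≫ f = f := Category.id_comp f
    rw [h]
    exact ⟨‹IsProper f›, hf⟩
  | succ n ih =>
    obtain ⟨h1, h2⟩ := ih
    have hN : IsLocallyNoetherian (tower f n).left := LocallyOfFiniteType.isLocallyNoetherian ((tower f n).hom ≫ f)
    have h3 := isBlowUp_bb f n
    have h4 : (tower f (n + 1)).hom ≫ f = bb f n ≫ (tower f n).hom ≫ f := by
      rw [← bb_hom, Category.assoc]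
    rw [h4]
    have h5 : IsProper (bb f n) := Groth.Agent.Flat2C.BlowProper.isProper_of_isBlowUp h3 (isFiniteTypeIdeal _)
    exact ⟨inferInstance, isNodalFamily_blowUp _ h2 _ h3⟩

instance isProper_tower [IsProper f] [hf : Fact (Curv2.IsNodalFamily f)] (n : ℕ) : IsProper ((tower f n).hom ≫ f) :=
  (props f hf.out n).1

instance isLocallyNoetherian_tower [IsProper f] [hf : Fact (Curv2.IsNodalFamily f)] (n : ℕ) :
    IsLocallyNoetherian (tower f n).left := LocallyOfFiniteType.isLocallyNoetherian ((tower f n).hom ≫ f)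

theorem isIso_baseChange_tower [IsProper f] (hf : Curv2.IsNodalFamily f) (n : ℕ) :
    IsIso (CInt.baseChangeOver (tower f n).hom f (Neron.genPt R)) := by
  induction n with
  | zero =>
    have h3 : IsIso (tower f 0).hom := (inferInstance : IsIso (𝟙 X))
    exact (isPullback_baseChangeOver (tower f 0).hom f (Neron.genPt R)).isIso_snd_of_isIso
  | succ n ih =>
    obtain ⟨h1, h2⟩ := props f hf n
    have hN : IsLocallyNoetherian (tower f n).left := LocallyOfFiniteType.isLocallyNoetherian ((tower f n).hom ≫ f)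
    have h3 := isIso_baseChange ((tower f n).hom ≫ f) h2 (bb f n) (isBlowUp_bb f n)
    exact isIso_baseChangeOver_comp (bb f n) (tower f n).hom f (Neron.genPt R) h3 ih

end Groth.Agent.SemiFact.K474.Tower
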