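import Groth.Agent.SemiFact.K793.Extend
import Groth.Agent.Sga3B.QCClosure
import Groth.Agent.S2821
import Groth.Agent.S5005
import Groth.Agent.S14047
import Groth.Agent.CalgB.ProjField
import Groth.Agent.CurvesC.EulerHV
import Groth.Agent.SemiFact.K474.Tower

/-!
# Closures of effective Cartier divisors of the generic fibre, and the singular points of the generic fibre
-/

set_option autoImplicit false
universe u
open CategoryTheory CategoryTheory.Limits AlgebraicGeometry IsLocalRing

namespace Groth.Agent.SemiFact.K474.Close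

open Groth.Agent.Divis.CartierBasic Groth.Agent.Divis.CartierStalk Groth.Agent.CycB.LocQuot
  Groth.Agent.Divis.StalkPrime Groth.Agent.Divis.StalkAssoc Groth.Agent.Divis.MapOpen
open K793.Extend Tower

/-- The closure of an effective Cartier divisor of an open subscheme is an effective Cartier divisor if it meets the
boundary only in regular points. -/
theorem isEffCartierIdeal_map {X Z : Scheme.{u}} [IsLocallyNoetherian X] (i : Z ⟶ X) [IsOpenImmersion i]
    [QuasiCompact i] (D : Z.IdealSheafData) (hD : BlowUp.IsEffCartierIdeal D)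
    (h : ∀ (P : Z) (q : X), P ∈ D.support → i P ⤳ q → q ∉ Set.range i → IsRegularLocalRing (X.presheaf.stalk q)) :
    BlowUp.IsEffCartierIdeal (D.map i) := by
  have hZ : IsLocallyNoetherian Z := isLocallyNoetherian_of_isOpenImmersion i
  rw [isEffCartierIdeal_iff_stalkIdeal]
  intro x
  by_cases hx : x ∈ Set.range i
  · obtain ⟨z, rfl⟩ := hx
    exact exists_generator_of_mem i D hD z
  by_cases hs : x ∈ (D.map i).support
  · have h1 : x ∈ closure (Set.range (D.subschemeι ≫ i)) := by
      have h2 : x ∈ (((D.subschemeι ≫ i).ker).support : Set X) := hs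
      rwa [Scheme.Hom.support_ker] at h2
    obtain ⟨w, hw⟩ := Groth.Agent.Sga3B.QCClosure.exists_specializes_of_mem_closure_range (D.subschemeι ≫ i) x h1
    have h3 : D.subschemeι w ∈ D.support := by
      have h4 : D.subschemeι w ∈ Set.range D.subschemeι := ⟨w, rfl⟩
      rw [Scheme.IdealSheafData.range_subschemeι] at h4
      exact h4
    have h5 := h (D.subschemeι w) x h3 (by rw [← Scheme.Hom.comp_apply]; exact hw) hx
    obtain ⟨h6, h7⟩ := Groth.Agent.S2821.result (X.presheaf.stalk x)
    exact exists_generator_of_ufd i D hD x hx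
  · refine ⟨1, one_mem _, ?_⟩
    rw [Ideal.span_singleton_one]
    by_contra hne
    exact hs ((mem_support_iff_stalkIdeal_le _ x).2 (IsLocalRing.le_maximalIdeal hne))

variable {R : Type u} [CommRing R] [IsDomain R] [IsDiscreteValuationRing R] {X : Scheme.{u}}
  (f : X ⟶ Spec (CommRingCat.of R))

omit [IsDiscreteValuationRing R] in
theorem genPt_eq (z : Spec (CommRingCat.of (FractionRing R))) : Neron.genPt R z = (⊥ : PrimeSpectrum R) := by
  apply PrimeSpectrum.ext
  have h1 : (z.asIdeal : Ideal (FractionRing R)) = ⊥ := by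
    refine (Ideal.eq_bot_or_top (K := FractionRing R) z.asIdeal).resolve_right z.isPrime.ne_top
  change (z.asIdeal : Ideal (FractionRing R)).comap (algebraMap R (FractionRing R)) = ⊥
  rw [h1, ← RingHom.ker_eq_comap_bot]
  exact (RingHom.injective_iff_ker_eq_bot _).1 (IsFractionRing.injective R (FractionRing R))

omit [IsDiscreteValuationRing R] in
theorem fst_mem (z : ↑(pullback f (Neron.genPt R))) :
    f (pullback.fst f (Neron.genPt R) z) = (⊥ : PrimeSpectrum R) := by
  rw [← Scheme.Hom.comp_apply, pullback.condition, Scheme.Hom.comp_apply]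
  exact genPt_eq _

theorem mem_range_fst (x : X) :
    x ∈ Set.range (pullback.fst f (Neron.genPt R)) ↔ f x ≠ (closedPoint R : PrimeSpectrum R) := by
  constructor
  · rintro ⟨z, rfl⟩ h
    rw [fst_mem] at h
    have h1 : (⊥ : Ideal R) = maximalIdeal R := congrArg PrimeSpectrum.asIdeal h
    exact IsDiscreteValuationRing.not_a_field R h1.symm
  · intro h
    rw [Scheme.Pullback.range_fst]
    change f x ∈ Set.range (Neron.genPt R)
    have h1 : f x = (⊥ : PrimeSpectrum R) := by
      by_contra h2
      apply h
      apply PrimeSpectrum.ext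
      exact IsLocalRing.eq_maximalIdeal ((f x).isPrime.isMaximal (fun h3 => h2 (PrimeSpectrum.ext h3)))
    let w : PrimeSpectrum (FractionRing R) := ⊥
    exact ⟨w, (genPt_eq w).trans h1.symm⟩

/-- the generic fibre has dimension at most one -/
theorem dim_generic_le (hf : Curv2.IsNodalFamily f) : topologicalKrullDim ↑(pullback f (Neron.genPt R)) ≤ 1 := by
  have h0 : topologicalKrullDim (f.fiber (⊥ : PrimeSpectrum R)) ≤ 1 :=
    Groth.Agent.CurvesC.EulerHV.dim_le _ ((hf.2.2 (⊥ : PrimeSpectrum R)).1)
  let φ : ↑(pullback f (Neron.genPt R)) → f ⁻¹' {(⊥ : PrimeSpectrum R)} :=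
    fun z => ⟨pullback.fst f (Neron.genPt R) z, fst_mem f z⟩
  have hφ : Topology.IsInducing φ := (pullback.fst f (Neron.genPt R)).isOpenEmbedding.isInducing.codRestrict
    (s := f ⁻¹' {(⊥ : PrimeSpectrum R)}) (fun z => fst_mem f z)
  exact (((f.fiberHomeo (⊥ : PrimeSpectrum R)).symm.isInducing.comp hφ).topologicalKrullDim_le).trans h0

theorem exists_isAmple [IsProper f] (hf : Curv2.IsNodalFamily f) :
    ∃ L : (pullback f (Neron.genPt R)).Modules, CohB1.IsAmple L :=
  Groth.Agent.CalgB.ProjField.exists_isAmple_of_dim_le_one (pullback.snd f (Neron.genPt R)) (dim_generic_le f hf)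

/-- the singular points of the generic fibre are finite in number -/
theorem finite_sing [IsProper f] (hf : Curv2.IsNodalFamily f) :
    {z : ↑(pullback f (Neron.genPt R)) |
      pullback.fst f (Neron.genPt R) z ∈ (Fitt.sheafIdeal (Omega.sheaf f) 1).support}.Finite := by
  have h1 := (Groth.Agent.S14047.result f hf _ _ (Groth.Agent.S5005.result f)).1
  have h2 := ((Fitt.sheafIdeal (Omega.sheaf f) 1).subschemeι ≫ f).finite_preimage_singleton (⊥ : PrimeSpectrum R)
  have h3 := h2.image (Fitt.sheafIdeal (Omega.sheaf f) 1).subschemeι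
  refine Set.Finite.of_injOn (f := pullback.fst f (Neron.genPt R)) ?_
    ((pullback.fst f (Neron.genPt R)).isOpenEmbedding.injective.injOn) h3
  intro z hz
  have h4 : pullback.fst f (Neron.genPt R) z ∈ Set.range (Fitt.sheafIdeal (Omega.sheaf f) 1).subschemeι := by
    rw [Scheme.IdealSheafData.range_subschemeι]
    exact hz
  obtain ⟨w, hw⟩ := h4
  refine ⟨w, ?_, hw⟩
  rw [Set.mem_preimage, Set.mem_singleton_iff, Scheme.Hom.comp_apply, hw]
  exact fst_mem f z

end Groth.Agent.SemiFact.K474.Close
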