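import Groth.Agent.IntTh.K712.SemiLen
import Groth.Agent.QuotLF.K821.FittMinors
import Groth.Agent.S12084
import Groth.Agent.Fitt.K360.Fiber
import Mathlib.LinearAlgebra.Dimension.Torsion.Finite
import Mathlib.Algebra.Module.PID
import Mathlib.NumberTheory.RamificationInertia.Ramification

/-!
# Torsion of modules of rank one over a discrete valuation ring

The length of the torsion submodule of a finite module `M` with `Fitt₀ M = 0` and `Fitt₁ M ≠ 0` is the length of
the quotient by `Fitt₁ M`.
-/

set_option autoImplicit false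
universe u

namespace Groth.Agent.SemiFact.K474.DvrLen

open Module

variable {V : Type u} [CommRing V] [IsDomain V] [IsDiscreteValuationRing V]
variable {M : Type u} [AddCommGroup M] [Module V M] [Module.Finite V M]

theorem exists_matrix (hT : Module.IsTorsion V M) :
    ∃ (n : ℕ) (A : Matrix (Fin n) (Fin n) V), Nonempty (((Fin n → V) ⧸ LinearMap.range A.mulVecLin) ≃ₗ[V] M) := by
  obtain ⟨n, f, hf⟩ := Module.Finite.exists_fin' V M
  let e := f.quotKerEquivOfSurjective hf
  have h1 : Module.finrank V ((Fin n → V) ⧸ LinearMap.ker f) = 0 := by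
    rw [e.finrank_eq]
    exact hT.finrank_eq_zero
  have h2 := Submodule.finrank_quotient_add_finrank (LinearMap.ker f)
  rw [h1, zero_add, Module.finrank_fin_fun] at h2
  have hfree : Module.Free V (LinearMap.ker f) := inferInstance
  let b := Module.finBasisOfFinrankEq V (LinearMap.ker f) h2
  let σ : (Fin n → V) →ₗ[V] (Fin n → V) := (LinearMap.ker f).subtype ∘ₗ b.equivFun.symm.toLinearMap
  have h3 : LinearMap.range σ = LinearMap.ker f := by
    rw [LinearMap.range_comp, LinearEquiv.range, Submodule.map_top, Submodule.range_subtype]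
  refine ⟨n, LinearMap.toMatrix' σ, ⟨(Submodule.quotEquivOfEq _ _ ?_).trans e⟩⟩
  rw [← h3, ← Matrix.toLin'_apply', Matrix.toLin'_toMatrix']

theorem exists_det (hT : Module.IsTorsion V M) :
    ∃ d : V, d ≠ 0 ∧ Fitt.ideal V M 0 = Ideal.span {d} ∧ Module.length V M = Module.length V (V ⧸ Fitt.ideal V M 0) := by
  obtain ⟨n, A, ⟨e⟩⟩ := exists_matrix (V := V) (M := M) hT
  have h1 : Fitt.ideal V M 0 = Ideal.span {A.det} := by
    rw [← K360.FittBasic.ideal_congr e, K821.FittMinors.fitt_coker A.mulVecLin 0]
    change K821.Minors.minorIdeal n (LinearMap.toMatrix' (Matrix.toLin' A)) = _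
    rw [LinearMap.toMatrix'_toLin']
    exact K821.Minors.minorIdeal_square A
  refine ⟨A.det, ?_, h1, ?_⟩
  · intro hd
    obtain ⟨v, hv0, hv⟩ := Matrix.exists_vecMul_eq_zero_iff.mpr hd
    obtain ⟨i, hi⟩ : ∃ i, v i ≠ 0 := by
      by_contra h
      push Not at h
      exact hv0 (funext h)
    obtain ⟨r, hr⟩ := @hT (e (Submodule.Quotient.mk (Pi.single i 1)))
    rw [Submonoid.smul_def, ← map_smul, e.map_eq_zero_iff, ← Submodule.Quotient.mk_smul,
      Submodule.Quotient.mk_eq_zero] at hr
    obtain ⟨x, hx⟩ := hr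
    have h2 : v ⬝ᵥ A.mulVec x = 0 := by rw [Matrix.dotProduct_mulVec, hv, zero_dotProduct]
    change A.mulVec x = _ at hx
    rw [hx, dotProduct_smul, dotProduct_single, mul_one, smul_eq_mul] at h2
    exact (mul_ne_zero (nonZeroDivisors.ne_zero r.2) hi) h2
  · rw [← e.length_eq, K712.SemiLen.length_coker_eq_addVal, h1, ← Ring.ord_eq_addVal]
    rfl

/-- **Length of the torsion of a module of rank one.** -/
theorem length_torsion (h0 : Fitt.ideal V M 0 = ⊥) (h1 : Fitt.ideal V M 1 ≠ ⊥) :
    Module.length V (Submodule.torsion V M) = Module.length V (V ⧸ Fitt.ideal V M 1) := by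
  have hN := isNoetherian_submodule' (R := V) (Submodule.torsion V M)
  have hQ := Module.Finite.of_surjective _ (Submodule.torsion V M).mkQ_surjective
  obtain ⟨n, g⟩ := Module.basisOfFiniteTypeTorsionFree' (R := V) (M := M ⧸ Submodule.torsion V M)
  have hP : Module.Projective V (M ⧸ Submodule.torsion V M) := Module.Projective.of_basis g
  obtain ⟨f, hf⟩ := Module.projective_lifting_property _ LinearMap.id (Submodule.torsion V M).mkQ_surjective
  have e := lequivProdOfRightSplitExact (Submodule.torsion V M).injective_subtype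
    (by rw [Submodule.range_subtype, Submodule.ker_mkQ]) hf
  obtain ⟨d, hd, hd1, hd2⟩ := exists_det (V := V) (M := Submodule.torsion V M) Submodule.torsion_isTorsion
  have h2 := Groth.Agent.S12084.result V (Submodule.torsion V M) (M ⧸ Submodule.torsion V M) 0
  have h3 := Groth.Agent.S12084.result V (Submodule.torsion V M) (M ⧸ Submodule.torsion V M) 1
  rw [K360.FittBasic.ideal_congr e] at h2 h3
  simp only [Finset.sum_range_succ, Finset.range_zero, Finset.sum_empty, zero_add, Nat.sub_self, Nat.sub_zero] at h2 h3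
  have hn0 : n ≠ 0 := by
    rintro rfl
    rw [K360.FittFiber.ideal_eq_top_of_basis g (by simp), Ideal.mul_top, h0, hd1] at h2
    exact hd (by simpa using h2.symm)
  have hn1 : n < 2 := by
    by_contra hn
    rw [K360.FittFiber.ideal_eq_bot_of_basis g (k := 0) (by simp; omega),
      K360.FittFiber.ideal_eq_bot_of_basis g (k := 1) (by simp; omega), Ideal.mul_bot, Ideal.mul_bot,
      Submodule.add_eq_sup, sup_bot_eq] at h3
    exact h1 h3
  obtain rfl : n = 1 := by omega
  rw [K360.FittFiber.ideal_eq_bot_of_basis g (k := 0) (by simp), K360.FittFiber.ideal_eq_top_of_basis g (by simp),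
    Ideal.mul_bot, Ideal.mul_top, Submodule.add_eq_sup, sup_bot_eq] at h3
  rw [h3, hd2]

theorem length_add_le {π : V} (hπ : π ≠ 0) {J J' : Ideal V} (h : J ≤ Ideal.span {π} * J') :
    Module.length V (V ⧸ J') + Ring.ord V π ≤ Module.length V (V ⧸ J) := by
  obtain ⟨x, rfl⟩ := (IsPrincipalIdealRing.principal J').principal
  rw [Ideal.submodule_span_eq, Ideal.span_singleton_mul_span_singleton] at h
  have h1 : Module.length V (V ⧸ Ideal.span {x}) = Ring.ord V x := rfl
  rw [Ideal.submodule_span_eq, h1, ← Ring.ord_mul V (mem_nonZeroDivisors_of_ne_zero hπ), mul_comm]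
  exact Module.length_le_of_surjective (Submodule.factor h) (Submodule.factor_surjective h)

theorem ord_of_span_eq_pow {x : V} {n : ℕ} (h : Ideal.span {x} = IsLocalRing.maximalIdeal V ^ n) :
    Ring.ord V x = n := by
  obtain ⟨ϖ, hϖ⟩ := IsDiscreteValuationRing.exists_irreducible V
  rw [hϖ.maximalIdeal_eq, Ideal.span_singleton_pow] at h
  have h1 : Ring.ord V x = Ring.ord V (ϖ ^ n) := by
    rw [Ring.ord, Ring.ord, h]
  rw [h1, Ring.ord_pow (mem_nonZeroDivisors_of_ne_zero hϖ.ne_zero), Ring.ord_of_irreducible hϖ, nsmul_one]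

theorem span_eq_pow_ramificationIdx' {R : Type u} [CommRing R] [IsDomain R] [IsDiscreteValuationRing R] [Algebra R V]
    (hinj : Function.Injective (algebraMap R V)) {π : R} (hπ : Irreducible π) :
    Ideal.span {algebraMap R V π} = IsLocalRing.maximalIdeal V ^
      (Ideal.ramificationIdx' (IsLocalRing.maximalIdeal R) (IsLocalRing.maximalIdeal V)) := by
  obtain ⟨ϖ, hϖ⟩ := IsDiscreteValuationRing.exists_irreducible V
  have h0 : Ideal.map (algebraMap R V) (IsLocalRing.maximalIdeal R) = Ideal.span {algebraMap R V π} := by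
    rw [hπ.maximalIdeal_eq, Ideal.map_span, Set.image_singleton]
  have h1 : Ideal.span {algebraMap R V π} ≠ ⊥ := by
    rw [Ne, Ideal.span_singleton_eq_bot]
    exact (map_ne_zero_iff _ hinj).2 hπ.ne_zero
  obtain ⟨n, hn⟩ := IsDiscreteValuationRing.ideal_eq_span_pow_irreducible h1 hϖ
  have h2 : Ideal.span {algebraMap R V π} = IsLocalRing.maximalIdeal V ^ n := by
    rw [hn, hϖ.maximalIdeal_eq, Ideal.span_singleton_pow]
  rw [h2]
  congr 1
  symm
  apply Ideal.ramificationIdx'_spec
  · rw [h0, h2]
  · rw [h0, h2]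
    intro h3
    rw [hϖ.maximalIdeal_eq, Ideal.span_singleton_pow, Ideal.span_singleton_pow, Ideal.span_singleton_le_span_singleton] at h3
    have := (pow_dvd_pow_iff hϖ.ne_zero hϖ.not_isUnit).1 h3
    omega

end Groth.Agent.SemiFact.K474.DvrLen
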