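import Groth.Agent.SemiFact.K474.Step
import Groth.Agent.SemiFact.K474.DvrLen
import Groth.Agent.Divis.StalkMod
import Groth.Agent.S8916

/-!
# Néron's defect of smoothness through Fitting ideals
-/

set_option autoImplicit false
universe u

open CategoryTheory CategoryTheory.Limits AlgebraicGeometry IsLocalRing BlowUp

namespace Groth.Agent.SemiFact.K474.Defect

open Groth.Agent.Divis.BlowChart Groth.Agent.Divis.IdealComap PullIdeal FitNode FitSpec LocDrop
open Groth.Agent.SDiv.K474 Groth.Agent.CohqA.BaseChangeMod Groth.Agent.Vancyc.H878.OmegaRank Groth.Agent.CurvesB.OmegaDer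

variable {X : Scheme.{u}}

theorem isBC_germ (M : X.Modules) (hM : Coh.IsQCoh M) {U : X.Opens} (hU : IsAffineOpen U) (x : X) (hx : x ∈ U) :
    ∃ l : Γ(M, U) →+ M.presheaf.stalk x, IsBC (X.presheaf.germ U x hx).hom l := by
  refine Groth.Agent.Divis.StalkMod.stalk_elim M hM hU x hx ?_
  intro _ _ _ _ l hl hr _
  have h1 : IsBaseChange (X.presheaf.stalk x) l :=
    IsLocalizedModule.isBaseChange (hU.primeIdealOf ⟨x, hx⟩).asIdeal.primeCompl (X.presheaf.stalk x) l
  have h2 := (isBC_iff_isBaseChange l).2 h1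
  have h3 : algebraMap Γ(X, U) (X.presheaf.stalk x) = (X.presheaf.germ U x hx).hom := RingHom.ext hr
  rw [h3] at h2
  exact ⟨_, h2⟩

/-- Fitting ideals of stalks. -/
theorem fitt_stalk (M : X.Modules) (hM : Coh.IsQCoh M) (hft : CohB1.IsFT M) {U : X.Opens} (hU : IsAffineOpen U) (x : X)
    (hx : x ∈ U) (i : ℕ) : Module.Finite (X.presheaf.stalk x) (M.presheaf.stalk x) ∧
    Fitt.ideal (X.presheaf.stalk x) (M.presheaf.stalk x) i =
      (Fitt.ideal Γ(X, U) Γ(M, U) i).map (X.presheaf.germ U x hx).hom := by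
  obtain ⟨l, hl⟩ := isBC_germ M hM hU x hx
  have := hM
  have := CohqB.FiniteType2.finite_sections_of_isFT M hft hU
  exact ⟨FittSheaf.finite_of_isBC hl, FittSheaf.ideal_of_isBC hl i⟩

section

variable {V : Type u} [CommRing V]

/-- The ring of the spectrum maps to the local rings. -/
noncomputable def kap (x : Spec (CommRingCat.of V)) : V →+* (Spec (CommRingCat.of V)).presheaf.stalk x :=
  ((Scheme.ΓSpecIso (CommRingCat.of V)).inv ≫ (Spec (CommRingCat.of V)).presheaf.germ ⊤ x trivial).hom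

theorem kap_bijective [IsLocalRing V] (x : Spec (CommRingCat.of V)) (hx : x = closedPoint V) :
    Function.Bijective (kap x) := by
  subst hx
  have h : (Scheme.ΓSpecIso (CommRingCat.of V)).inv ≫ (Spec (CommRingCat.of V)).presheaf.germ ⊤ (closedPoint V) trivial =
      (stalkClosedPointIso (CommRingCat.of V)).inv := by
    rw [Iso.inv_comp_eq]
    exact (ΓSpecIso_hom_stalkClosedPointIso_inv _).symm
  have h1 : IsIso ((Scheme.ΓSpecIso (CommRingCat.of V)).inv ≫
      (Spec (CommRingCat.of V)).presheaf.germ ⊤ (closedPoint V) trivial) := by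
    rw [h]
    infer_instance
  exact ConcreteCategory.bijective_of_isIso ((Scheme.ΓSpecIso (CommRingCat.of V)).inv ≫
      (Spec (CommRingCat.of V)).presheaf.germ ⊤ (closedPoint V) trivial)

theorem fitt_stalk_pullback (t : Spec (CommRingCat.of V) ⟶ X) (F : X.Modules) (hF : Coh.IsQCoh F)
    (hft : CohB1.IsFT F) (i : ℕ) (x : Spec (CommRingCat.of V)) :
    Module.Finite ((Spec (CommRingCat.of V)).presheaf.stalk x)
      (((Scheme.Modules.pullback t).obj F).presheaf.stalk x) ∧
    Fitt.ideal ((Spec (CommRingCat.of V)).presheaf.stalk x)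
      (((Scheme.Modules.pullback t).obj F).presheaf.stalk x) i =
      (pl (Fitt.sheafIdeal F i) t).map (kap x) := by
  have hF' : F.IsQuasicoherent := hF
  have hq : Coh.IsQCoh ((Scheme.Modules.pullback t).obj F) := CohqA.PullbackQCoh.isQuasicoherent_pullback t F
  have hq' := FittSheaf.isFT_pullback t F hF hft
  obtain ⟨h1, h2⟩ := fitt_stalk _ hq hq' (isAffineOpen_top _) x trivial i
  refine ⟨h1, h2.trans ?_⟩
  have h3 := FittSheaf.sheafIdeal_ideal _ hq hq' i ⟨⊤, isAffineOpen_top _⟩
  rw [pl, FittSheaf.sheafIdeal_comap t F hF hft i, h3, Ideal.map_map, kap, ← CommRingCat.hom_comp,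
    Iso.hom_inv_id_assoc]

end

theorem notMem_support_of_mem_smoothLocus {S : Scheme.{u}} (f : X ⟶ S) [QuasiSeparated f] (hf : Curv2.IsNodalFamily f)
    [LocallyOfFinitePresentation f] (y : X) (hy : y ∈ f.smoothLocus) :
    y ∉ (Fitt.sheafIdeal (Omega.sheaf f) 1).support := by
  have := hf.1
  rw [Groth.Agent.S8916.result f 1 (fun s => by exact_mod_cast (hf.2.2 s).1) y, not_not]
  exact (FittOmega2.mem_smoothLocus_iff_exists f y).1 hy

section

variable {V : Type u} [CommRing V] [IsDomain V] [IsDiscreteValuationRing V]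

/-- **The defect of smoothness drops**, when the first Fitting ideal is divided by an element `π`. -/
theorem length_torsion_le {Y S : Scheme.{u}} (f : X ⟶ S) (g : Y ⟶ S) [QuasiSeparated f] [LocallyOfFiniteType f]
    [QuasiSeparated g] [LocallyOfFiniteType g] (a : Spec (CommRingCat.of V) ⟶ X) (c : Spec (CommRingCat.of V) ⟶ Y)
    (ha0 : pl (Fitt.sheafIdeal (Omega.sheaf f) 0) a = ⊥) (hc0 : pl (Fitt.sheafIdeal (Omega.sheaf g) 0) c = ⊥)
    (ha1 : pl (Fitt.sheafIdeal (Omega.sheaf f) 1) a ≠ ⊥) (π : V) (hπ : π ≠ 0)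
    (h : pl (Fitt.sheafIdeal (Omega.sheaf f) 1) a = Ideal.span {π} * pl (Fitt.sheafIdeal (Omega.sheaf g) 1) c)
    (r : ℕ) (hr : Ideal.span {π} = maximalIdeal V ^ r)
    (x : Spec (CommRingCat.of V)) (hx : x = closedPoint V) :
    Module.length ((Spec (CommRingCat.of V)).presheaf.stalk x)
      (Submodule.torsion ((Spec (CommRingCat.of V)).presheaf.stalk x)
        (((Scheme.Modules.pullback c).obj (Omega.sheaf g)).presheaf.stalk x)) ≤
    Module.length ((Spec (CommRingCat.of V)).presheaf.stalk x)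
      (Submodule.torsion ((Spec (CommRingCat.of V)).presheaf.stalk x)
        (((Scheme.Modules.pullback a).obj (Omega.sheaf f)).presheaf.stalk x)) - (r : ℕ∞) := by
  have hk := kap_bijective x hx
  let e : V ≃+* (Spec (CommRingCat.of V)).presheaf.stalk x := RingEquiv.ofBijective (kap x) hk
  have hdom : IsDomain ((Spec (CommRingCat.of V)).presheaf.stalk x) := MulEquiv.isDomain V e.symm.toMulEquiv
  have hdvr : IsDiscreteValuationRing ((Spec (CommRingCat.of V)).presheaf.stalk x) :=
    IsDiscreteValuationRing.RingEquivClass.isDiscreteValuationRing e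
  have hqf : Coh.IsQCoh (Omega.sheaf f) := isQCoh_omega f
  have hqg : Coh.IsQCoh (Omega.sheaf g) := isQCoh_omega g
  obtain ⟨f1, f2⟩ := fitt_stalk_pullback a (Omega.sheaf f) hqf (FittOmega.isFT_omega f) 0 x
  obtain ⟨-, f3⟩ := fitt_stalk_pullback a (Omega.sheaf f) hqf (FittOmega.isFT_omega f) 1 x
  obtain ⟨g1, g2⟩ := fitt_stalk_pullback c (Omega.sheaf g) hqg (FittOmega.isFT_omega g) 0 x
  obtain ⟨-, g3⟩ := fitt_stalk_pullback c (Omega.sheaf g) hqg (FittOmega.isFT_omega g) 1 x
  have hbot : ∀ J : Ideal V, J.map (kap x) = ⊥ → J = ⊥ := by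
    intro J hJ
    exact (Ideal.map_eq_bot_iff_of_injective hk.1).1 hJ
  rw [ha0, Ideal.map_bot] at f2
  rw [hc0, Ideal.map_bot] at g2
  have hf3 : Fitt.ideal ((Spec (CommRingCat.of V)).presheaf.stalk x)
      (((Scheme.Modules.pullback a).obj (Omega.sheaf f)).presheaf.stalk x) 1 ≠ ⊥ := by
    rw [f3]
    exact fun h0 => ha1 (hbot _ h0)
  have hg3 : Fitt.ideal ((Spec (CommRingCat.of V)).presheaf.stalk x)
      (((Scheme.Modules.pullback c).obj (Omega.sheaf g)).presheaf.stalk x) 1 ≠ ⊥ := by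
    rw [g3]
    intro h0
    apply ha1
    rw [h, hbot _ h0, Ideal.mul_bot]
  rw [DvrLen.length_torsion f2 hf3, DvrLen.length_torsion g2 hg3, f3, g3]
  have h1 : kap x π ≠ 0 := (map_ne_zero_iff _ hk.1).2 hπ
  have h2 : Ideal.span {kap x π} = maximalIdeal ((Spec (CommRingCat.of V)).presheaf.stalk x) ^ r := by
    have h3 : (maximalIdeal V).map (kap x) = maximalIdeal ((Spec (CommRingCat.of V)).presheaf.stalk x) := by
      have := IsLocalRing.eq_maximalIdeal (Ideal.map_isMaximal_of_equiv e (p := maximalIdeal V))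
      exact this
    rw [← h3, ← Ideal.map_pow, ← hr, Ideal.map_span, Set.image_singleton]
  have h4 := DvrLen.length_add_le h1 (J := (pl (Fitt.sheafIdeal (Omega.sheaf f) 1) a).map (kap x))
    (J' := (pl (Fitt.sheafIdeal (Omega.sheaf g) 1) c).map (kap x)) (by
      rw [h, Ideal.map_mul, Ideal.map_span, Set.image_singleton])
  rw [DvrLen.ord_of_span_eq_pow h2] at h4
  exact ENat.le_sub_of_add_le_right (ENat.natCast_ne_top r) h4

end

end Groth.Agent.SemiFact.K474.Defect
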