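import Groth.Agent.SemiFact.K474.Terminate
import Groth.Agent.SemiFact.K474.Close
import Groth.Agent.SemiFact.K793.PicSurj
import Groth.Agent.Divis.EffCartier

/-!
# Extension of an invertible module of the generic fibre to a stage of the tower
-/

set_option autoImplicit false
universe u
open CategoryTheory CategoryTheory.Limits AlgebraicGeometry IsLocalRing

namespace Groth.Agent.SemiFact.K474.ExtPic

open Groth.Agent.Grpsch.PicGrp K793.PicSurj Tower Close Terminate Groth.Agent.Dix.IdealModCartier

variable {R : Type u} [CommRing R] [IsDomain R] [IsDiscreteValuationRing R] {X : Scheme.{u}}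
  (f : X ⟶ Spec (CommRingCat.of R))

/-- the closed set of `X` generated by the support of a divisor of the generic fibre -/
def cl (S : Set ↑(pullback f (Neron.genPt R))) : TopologicalSpace.Closeds X :=
  ⟨closure (pullback.fst f (Neron.genPt R) '' S), isClosed_closure⟩

theorem eq_closed_of_mem (S : Set ↑(pullback f (Neron.genPt R))) (hS : IsClosed S)
    (hE : ∀ z ∈ S, pullback.fst f (Neron.genPt R) z ∉ (Fitt.sheafIdeal (Omega.sheaf f) 1).support) (x : X)
    (hx : x ∈ (Fitt.sheafIdeal (Omega.sheaf f) 1).support) (hxC : x ∈ cl f S) : f x = (closedPoint R : PrimeSpectrum R) := by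
  by_contra h
  obtain ⟨z, rfl⟩ := (mem_range_fst f x).2 h
  have h1 : z ∈ closure (pullback.fst f (Neron.genPt R) ⁻¹' (pullback.fst f (Neron.genPt R) '' S)) :=
    (pullback.fst f (Neron.genPt R)).isOpenEmbedding.isOpenMap.preimage_closure_subset_closure_preimage hxC
  rw [(pullback.fst f (Neron.genPt R)).isOpenEmbedding.injective.preimage_image, hS.closure_eq] at h1
  exact hE z h1 hx

/-- extension of one divisor -/
theorem exists_ext_div [IsProper f] (hf : Curv2.IsNodalFamily f) (N : ℕ) (C : TopologicalSpace.Closeds X)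
    (hN : ∀ (P q : (tower f N).left), P ⤳ q → (tower f N).hom P ∈ C →
      ((tower f N).hom ≫ f) P ≠ (closedPoint R : PrimeSpectrum R) →
      ((tower f N).hom ≫ f) q = (closedPoint R : PrimeSpectrum R) →
        IsRegularLocalRing ((tower f N).left.presheaf.stalk q))
    (D : (pullback f (Neron.genPt R)).IdealSheafData) (hD : BlowUp.IsEffCartierIdeal D)
    (hC : ∀ z ∈ D.support, pullback.fst f (Neron.genPt R) z ∈ C) :
    ∃ (J : (tower f N).left.IdealSheafData) (_ : BlowUp.IsEffCartierIdeal J),
      J.comap (pullback.fst ((tower f N).hom ≫ f) (Neron.genPt R)) =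
        D.comap (CInt.baseChangeOver (tower f N).hom f (Neron.genPt R)) := by
  obtain ⟨h1, h2⟩ := props f hf N
  have hNo : IsLocallyNoetherian (tower f N).left := LocallyOfFiniteType.isLocallyNoetherian ((tower f N).hom ≫ f)
  have hθ := isIso_baseChange_tower f hf N
  set j := pullback.fst ((tower f N).hom ≫ f) (Neron.genPt R) with hj
  set θ := CInt.baseChangeOver (tower f N).hom f (Neron.genPt R) with hθ'
  have hD' : BlowUp.IsEffCartierIdeal (D.comap θ) := Groth.Agent.Divis.EffCartier.isEff_comap_flat hD θ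
  refine ⟨(D.comap θ).map j, ?_, Groth.Agent.Divis.MapOpen.comap_map _ j⟩
  refine isEffCartierIdeal_map j (D.comap θ) hD' fun P q hP hPq hq => ?_
  refine hN (j P) q hPq ?_ ?_ ?_
  · have h3 : (tower f N).hom (j P) = pullback.fst f (Neron.genPt R) (θ P) := by
      rw [← Scheme.Hom.comp_apply, ← Scheme.Hom.comp_apply, hθ', baseChangeOver_fst]
    rw [h3]
    refine hC _ ?_
    rw [Scheme.IdealSheafData.support_comap] at hP
    exact hP
  · exact (mem_range_fst ((tower f N).hom ≫ f) (j P)).1 ⟨P, rfl⟩
  · by_contra h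
    exact hq ((mem_range_fst ((tower f N).hom ≫ f) q).2 h)

theorem exists_ext [IsProper f] (hf : Curv2.IsNodalFamily f) (L : (pullback f (Neron.genPt R)).Modules)
    (hL : PicF.IsInvertible L) :
    ∃ (N : ℕ) (M : (tower f N).left.Modules), PicF.IsInvertible M ∧
      Nonempty ((Scheme.Modules.pullback (pullback.fst ((tower f N).hom ≫ f) (Neron.genPt R))).obj M ≅
        (Scheme.Modules.pullback (CInt.baseChangeOver (tower f N).hom f (Neron.genPt R))).obj L) := by
  have hNoK : IsNoetherian (pullback f (Neron.genPt R)) := by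
    have h1 : IsLocallyNoetherian (pullback f (Neron.genPt R)) :=
      LocallyOfFiniteType.isLocallyNoetherian (pullback.snd f (Neron.genPt R))
    have h2 : CompactSpace ↑(pullback f (Neron.genPt R)) :=
      QuasiCompact.compactSpace_of_compactSpace (pullback.snd f (Neron.genPt R))
    exact { }
  obtain ⟨D, D', hD, hD', hE, hE', hc⟩ := exists_mk_eq (exists_isAmple f hf) (mk L hL) _ (finite_sing f hf)
  obtain ⟨N, hN⟩ := exists_N f hf (cl f (D.support ∪ D'.support : Set _))
    (eq_closed_of_mem f _ (D.support.isClosed.union D'.support.isClosed) (by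
      rintro z (hz | hz) h
      · exact Set.disjoint_left.1 hE h hz
      · exact Set.disjoint_left.1 hE' h hz))
  obtain ⟨J, hJ, hJD⟩ := exists_ext_div f hf N _ hN D hD
    (fun z hz => subset_closure (Set.mem_image_of_mem _ (Or.inl hz)))
  obtain ⟨J', hJ', hJD'⟩ := exists_ext_div f hf N _ hN D' hD'
    (fun z hz => subset_closure (Set.mem_image_of_mem _ (Or.inr hz)))
  obtain ⟨M, hM, hM'⟩ := exists_mk (mk (ClSub.idealMod J') (isInvertible_idealMod hJ') *
    (mk (ClSub.idealMod J) (isInvertible_idealMod hJ))⁻¹)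
  have hθ := isIso_baseChange_tower f hf N
  set j := pullback.fst ((tower f N).hom ≫ f) (Neron.genPt R) with hj
  set θ := CInt.baseChangeOver (tower f N).hom f (Neron.genPt R) with hθ'
  have e1 : pull j (mk M hM) = pull θ (mk L hL) := by
    rw [← hM', hc, map_mul, map_mul, map_inv, map_inv,
      pull_idealMod j hJ (Groth.Agent.Divis.EffCartier.isEff_comap_flat hD θ) hJD,
      pull_idealMod j hJ' (Groth.Agent.Divis.EffCartier.isEff_comap_flat hD' θ) hJD',
      pull_idealMod θ hD (Groth.Agent.Divis.EffCartier.isEff_comap_flat hD θ) rfl,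
      pull_idealMod θ hD' (Groth.Agent.Divis.EffCartier.isEff_comap_flat hD' θ) rfl]
  rw [pull_mk, pull_mk, mk_eq_iff] at e1
  exact ⟨N, M, hM, e1⟩

end Groth.Agent.SemiFact.K474.ExtPic
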