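import Groth.Agent.SDiv.K474.FittOmega2
import Groth.Agent.OmegaSh.K583.DerFunct
import Groth.Agent.Nrm16.K136.UnivOmega
import Groth.Agent.S9776
import Groth.Agent.QuotLF.K821.FittMinors
import Groth.Agent.Disc.K576.FittJac
import Groth.Agent.Models.NodeRing

/-!
# Fitting ideals of the differentials: étale localisation and the node `uv = a`
-/

set_option autoImplicit false
universe u

open CategoryTheory CategoryTheory.Limits AlgebraicGeometry
open scoped KaehlerDifferential

namespace Groth.Agent.SemiFact.K474.FitNode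

open Groth.Agent.SDiv.K474 Groth.Agent.Vancyc.H878.OmegaRank Groth.Agent.CurvesB.OmegaDer

/-- **Fitting ideals of the sheaf of differentials are compatible with étale morphisms** on source and base. -/
theorem comap_etale {X S X' S' : Scheme.{u}} (f : X ⟶ S) (f' : X' ⟶ S')
    (g : X' ⟶ X) (h : S' ⟶ S) (w : g ≫ f = f' ≫ h) [Etale g] [Etale h] [QuasiSeparated f]
    [QuasiSeparated f'] [LocallyOfFiniteType f] [LocallyOfFiniteType f'] (i : ℕ) :
    (Fitt.sheafIdeal (Omega.sheaf f) i).comap g = Fitt.sheafIdeal (Omega.sheaf f') i := by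
  have h1 := K136.UnivOmega.isUniversal_dOmega f
  have h2 := K136.UnivOmega.isUniversal_dOmega f'
  have hc := K583.DerFunct.isDiffCompat_diffMap w.symm h1 (OmegaSh.dOmega f')
  have hiso := Groth.Agent.S9776.result f f' g h w _ _ h1 _ _ h2 _ hc
  have hq1 : Coh.IsQCoh (Omega.sheaf f) := isQCoh_omega f
  have hq2 : Coh.IsQCoh (Omega.sheaf f') := isQCoh_omega f'
  have : (Omega.sheaf f).IsQuasicoherent := hq1
  rw [FittSheaf.sheafIdeal_comap g _ hq1 (FittOmega.isFT_omega f)]
  exact FittBlow.sheafIdeal_iso (asIso (K583.DerFunct.diffMap w.symm h1 (OmegaSh.dOmega f')))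
    (CohqA.PullbackQCoh.isQuasicoherent_pullback g _) hq2
    (FittSheaf.isFT_pullback g _ hq1 (FittOmega.isFT_omega f)) (FittOmega.isFT_omega f') i

section Node

open Groth.Agent.Models.NodeRing MvPolynomial

variable (D : Type u) [CommRing D] (a : D)

/-- the equations of the node, in the format of two equations in two variables -/
noncomputable def eqs : Fin 2 → MvPolynomial (Fin 2) D := ![X 0 * X 1 - C a, 0]

theorem surj : Function.Surjective (algebraMap (MvPolynomial (Fin 2) D) (W D a)) := Ideal.Quotient.mk_surjective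

theorem ker_eq : RingHom.ker (algebraMap (MvPolynomial (Fin 2) D) (W D a)) = Ideal.span (Set.range (eqs D a)) := by
  change RingHom.ker (Ideal.Quotient.mk _) = _
  rw [Ideal.mk_ker, eqs, Matrix.range_cons, Matrix.range_cons, Matrix.range_empty, Set.union_empty,
    Set.singleton_union, Ideal.span_insert, Ideal.span_singleton_zero, sup_bot_eq]

theorem jac_eq : K576.FittJac.jac D (W D a) 2 (eqs D a) = Matrix.of ![![vv D a, uu D a], ![0, 0]] := by
  ext i j
  fin_cases i <;> fin_cases j
  · change algebraMap (MvPolynomial (Fin 2) D) (W D a) (pderiv 0 (X 0 * X 1 - C a)) = Ideal.Quotient.mk _ (X 1)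
    simp [Derivation.leibniz, pderiv_X]
  · change algebraMap (MvPolynomial (Fin 2) D) (W D a) (pderiv 1 (X 0 * X 1 - C a)) = Ideal.Quotient.mk _ (X 0)
    simp [Derivation.leibniz, pderiv_X]
  · change algebraMap (MvPolynomial (Fin 2) D) (W D a) (pderiv 0 (0 : MvPolynomial (Fin 2) D)) = 0
    simp
  · change algebraMap (MvPolynomial (Fin 2) D) (W D a) (pderiv 1 (0 : MvPolynomial (Fin 2) D)) = 0
    simp

theorem fitt_eq (k : ℕ) : Fitt.ideal (W D a) Ω[W D a⁄D] k =
    K821.Minors.minorIdeal (2 - k) (Matrix.of fun i j => (K576.FittJac.jac D (W D a) 2 (eqs D a)) j i) := by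
  refine K821.FittMinors.fitt_of_rel (K576.FittJac.gen D (W D a) 2)
    (K576.FittJac.span_gen D (W D a) 2 (surj D a)) _ (fun c => ?_) k
  rw [K576.FittJac.rel_gen D (W D a) 2 (eqs D a) (surj D a) (ker_eq D a), Groth.Agent.Flat2C.FittingZero.mem_rel]

theorem fitt_one : Fitt.ideal (W D a) Ω[W D a⁄D] 1 = Ideal.span {uu D a, vv D a} := by
  rw [fitt_eq, jac_eq]
  change K821.Minors.minorIdeal 1 _ = _
  apply le_antisymm
  · rw [K821.Minors.minorIdeal_le_iff]
    intro e f
    rw [Matrix.det_fin_one]
    simp only [Matrix.submatrix_apply, Matrix.of_apply]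
    generalize e 0 = i
    generalize f 0 = j
    fin_cases i <;> fin_cases j
    · exact Ideal.subset_span (Or.inr rfl)
    · exact Ideal.zero_mem _
    · exact Ideal.subset_span (Or.inl rfl)
    · exact Ideal.zero_mem _
  · rw [Ideal.span_le]
    rintro x (rfl | rfl)
    · have := K821.Minors.minor_mem 1 (Matrix.of fun i j => (Matrix.of ![![vv D a, uu D a], ![0, 0]]) j i)
        (fun _ => 1) (fun _ => 0)
      rw [Matrix.det_fin_one] at this
      exact this
    · have := K821.Minors.minor_mem 1 (Matrix.of fun i j => (Matrix.of ![![vv D a, uu D a], ![0, 0]]) j i)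
        (fun _ => 0) (fun _ => 0)
      rw [Matrix.det_fin_one] at this
      exact this

theorem fitt_zero : Fitt.ideal (W D a) Ω[W D a⁄D] 0 = ⊥ := by
  rw [fitt_eq, jac_eq]
  change K821.Minors.minorIdeal 2 _ = _
  rw [K821.Minors.minorIdeal_square, Ideal.span_singleton_eq_bot, Matrix.det_fin_two]
  simp

end Node

end Groth.Agent.SemiFact.K474.FitNode
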