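import Groth.Agent.SemiFact.K474.PullIdeal
import Groth.Agent.SemiFact.K474.FitNode
import Groth.Agent.FormalB.PpTilde
import Groth.Agent.S2157

/-!
# The Fitting ideal sheaves of the differentials of a morphism of affine schemes
-/

set_option autoImplicit false
universe u

open CategoryTheory CategoryTheory.Limits AlgebraicGeometry
open scoped KaehlerDifferential

namespace Groth.Agent.SemiFact.K474.FitSpec

open Groth.Agent.Divis.BlowChart Groth.Agent.Divis.IdealComap Groth.Agent.SDiv.K474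
open Groth.Agent.Vancyc.H878.OmegaRank Groth.Agent.CurvesB.OmegaDer Groth.Agent.CohqA.BaseChangeMod

theorem isBC_tilde {R : CommRingCat.{u}} (N : ModuleCat.{u} R) :
    IsBC (Scheme.ΓSpecIso R).inv.hom (Groth.Agent.FormalB.PpTilde.tO N) :=
  IsBC.of_bijective _ (ConcreteCategory.bijective_of_isIso (Scheme.ΓSpecIso R).inv) _
    (Groth.Agent.FormalB.PpTilde.tO_bijective N) (Groth.Agent.FormalB.PpTilde.tO_smul N)

/-- Fitting ideal sheaf of `Ω` of `Spec B ⟶ Spec A`. -/
theorem sheafIdeal_omega_Spec (A B : Type u) [CommRing A] [CommRing B] [Algebra A B] [Algebra.FiniteType A B] (i : ℕ) :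
    Fitt.sheafIdeal (Omega.sheaf (Spec.map (CommRingCat.ofHom (algebraMap A B)))) i =
      idl (Fitt.ideal B Ω[B⁄A] i) := by
  obtain ⟨e⟩ := Groth.Agent.S2157.result A B
  have hft : LocallyOfFiniteType (Spec.map (CommRingCat.ofHom (algebraMap A B))) := by
    rw [HasRingHomProperty.Spec_iff (P := @LocallyOfFiniteType)]
    exact RingHom.finiteType_algebraMap.2 inferInstance
  have h1 := FittOmega.isFT_omega (Spec.map (CommRingCat.ofHom (algebraMap A B)))
  have hq1 : Coh.IsQCoh (Omega.sheaf (Spec.map (CommRingCat.ofHom (algebraMap A B)))) := isQCoh_omega _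
  have hq2 : Coh.IsQCoh (tilde (R := CommRingCat.of B) (ModuleCat.of B (Ω[B⁄A]))) :=
    (inferInstance : (tilde (R := CommRingCat.of B) (ModuleCat.of B (Ω[B⁄A]))).IsQuasicoherent)
  have h2 := FittBlow.isFT_iso e hq1 hq2 h1
  rw [FittBlow.sheafIdeal_iso e hq1 hq2 h1 h2]
  refine ext_of_forall_mem fun x => ⟨⟨⊤, isAffineOpen_top _⟩, trivial, ?_⟩
  rw [FittSheaf.sheafIdeal_ideal _ hq2 h2, idl, Scheme.IdealSheafData.ofIdealTop_ideal]
  have h3 := FittSheaf.ideal_of_isBC (isBC_tilde (R := CommRingCat.of B) (ModuleCat.of B (Ω[B⁄A]))) i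
  refine h3.trans ?_
  have h4 : (Spec (CommRingCat.of B)).presheaf.map (homOfLE (le_top : (⊤ : (Spec (CommRingCat.of B)).Opens) ≤ ⊤)).op
      = 𝟙 _ := (Spec (CommRingCat.of B)).presheaf.map_id _
  rw [h4, CommRingCat.hom_id, Ideal.map_id]

end Groth.Agent.SemiFact.K474.FitSpec
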