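import Groth.Agent.SemiFact.K474.FitSpec
import Groth.Agent.SemiFact.K793.BlowNodal
import Mathlib.RingTheory.RingHom.FaithfullyFlat
import Mathlib.RingTheory.Flat.FaithfullyFlat.Algebra

/-!
# Effect of the blow-up of a non-regular point of a nodal family on the Fitting ideals of the differentials

Étale local computation along a morphism from the spectrum of a local ring.
-/

set_option autoImplicit false
universe u

open CategoryTheory CategoryTheory.Limits AlgebraicGeometry IsLocalRing
open scoped KaehlerDifferential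

namespace Groth.Agent.SemiFact.K474.LocDrop

open Groth.Agent.Divis.BlowChart Groth.Agent.Divis.IdealComap PullIdeal FitNode FitSpec
open Groth.Agent.Models.NodeRing Groth.Agent.Models.NodeBlow K793.Chart

/-- Étale localisation of a morphism from the spectrum of a local ring. -/
theorem exists_cover {X V : Scheme.{u}} (e : V ⟶ X) [Etale e] (v : V) (R' : Type u) [CommRing R'] [IsLocalRing R']
    (a : Spec (CommRingCat.of R') ⟶ X) (ha : a (closedPoint R') = e v) :
    ∃ (T : Type u) (_ : CommRing T) (φ : R' →+* T) (s : Spec (CommRingCat.of T) ⟶ V),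
      s ≫ e = Spec.map (CommRingCat.ofHom φ) ≫ a ∧ φ.FaithfullyFlat ∧ v ∈ Set.range s := by
  obtain ⟨q, hq1, hq2⟩ := Scheme.Pullback.exists_preimage_pullback (f := e) (g := a) v (closedPoint R') ha.symm
  obtain ⟨T, j, hj, ⟨z, hz⟩, -⟩ :=
    Scheme.exists_affine_mem_range_and_range_subset (X := pullback e a) (x := q) (U := ⊤) trivial
  let φ : R' →+* T := (Spec.preimage (j ≫ pullback.snd e a)).hom
  have hφ : Spec.map (CommRingCat.ofHom φ) = j ≫ pullback.snd e a := Spec.map_preimage _
  refine ⟨T, inferInstance, φ, j ≫ pullback.fst e a, ?_, ?_, ⟨z, ?_⟩⟩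
  · rw [Category.assoc, pullback.condition, hφ, Category.assoc]
  · have hflat : Flat (Spec.map (CommRingCat.ofHom φ)) := by
      rw [hφ]
      infer_instance
    have h1 : φ.Flat := by
      rw [HasRingHomProperty.Spec_iff (P := @Flat)] at hflat
      exact hflat
    algebraize [φ]
    refine ⟨fun m hm h => ?_⟩
    have h2 : m = maximalIdeal R' := IsLocalRing.eq_maximalIdeal hm
    have h3 : (Spec.map (CommRingCat.ofHom φ)) z = closedPoint R' := by
      rw [hφ, Scheme.Hom.comp_apply, hz]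
      exact hq2
    have h4 : (z.asIdeal : Ideal T).comap φ = maximalIdeal R' := congrArg PrimeSpectrum.asIdeal h3
    have h5 : m • (⊤ : Submodule R' T) ≤ (z.asIdeal : Ideal T).restrictScalars R' := by
      rw [Submodule.smul_le]
      intro r hr n _
      rw [Algebra.smul_def]
      refine Ideal.mul_mem_right _ _ ?_
      have : r ∈ (z.asIdeal : Ideal T).comap φ := by
        rw [h4, ← h2]
        exact hr
      exact this
    rw [h, top_le_iff, Submodule.restrictScalars_eq_top_iff] at h5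
    exact z.isPrime.ne_top h5
  · rw [Scheme.Hom.comp_apply, hz]
    exact hq1

/-- Fitting ideals of differentials in an étale chart. -/
theorem comap_chart {X S V : Scheme.{u}} [IsAffine V] (p : X ⟶ S) [QuasiSeparated p] [LocallyOfFiniteType p]
    (e : V ⟶ X) [Etale e] (A B : Type u) [CommRing A] [CommRing B] [Algebra A B] [Algebra.FiniteType A B]
    (g : V ⟶ Spec (CommRingCat.of B)) [Etale g] (h : Spec (CommRingCat.of A) ⟶ S) [Etale h]
    (w : g ≫ Spec.map (CommRingCat.ofHom (algebraMap A B)) ≫ h = e ≫ p) (i : ℕ) :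
    (Fitt.sheafIdeal (Omega.sheaf p) i).comap e = (idl (Fitt.ideal B Ω[B⁄A] i)).comap g := by
  have hft : LocallyOfFiniteType (Spec.map (CommRingCat.ofHom (algebraMap A B))) := by
    rw [HasRingHomProperty.Spec_iff (P := @LocallyOfFiniteType)]
    exact RingHom.finiteType_algebraMap.2 inferInstance
  rw [comap_etale p (g ≫ Spec.map (CommRingCat.ofHom (algebraMap A B))) e h (by rw [Category.assoc, w]) i,
    ← sheafIdeal_omega_Spec,
    comap_etale (Spec.map (CommRingCat.ofHom (algebraMap A B))) (g ≫ Spec.map (CommRingCat.ofHom (algebraMap A B)))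
      g (𝟙 _) (by rw [Category.comp_id]) i]

theorem map_injective_of_faithfullyFlat {A B : Type*} [CommRing A] [CommRing B] {φ : A →+* B}
    (h : φ.FaithfullyFlat) {I J : Ideal A} (hIJ : I.map φ = J.map φ) : I = J := by
  algebraize [φ]
  have : Module.FaithfullyFlat A B := h
  exact Ideal.map_injective_of_faithfullyFlat (B := B) hIJ

variable {R : Type u} [CommRing R] {ϖ : R} {X : Scheme.{u}} {p : X ⟶ Spec (CommRingCat.of R)} {x : X}

instance etale_Spec_map {D : Type u} [CommRing D] [Algebra R D] [Algebra.Etale R D] :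
    Etale (Spec.map (CommRingCat.ofHom (algebraMap R D))) := by
  rw [HasRingHomProperty.Spec_iff (P := @Etale)]
  exact RingHom.etale_algebraMap.2 inferInstance

theorem pl_chart [QuasiSeparated p] [LocallyOfFiniteType p] (C : NChart R ϖ p x) {V : Scheme.{u}} [IsAffine V]
    (j : V ⟶ C.U) [Etale j] {T : Type u} [CommRing T] (s : Spec (CommRingCat.of T) ⟶ V) (i : ℕ) :
    pl (Fitt.sheafIdeal (Omega.sheaf p) i) (s ≫ j ≫ C.e) =
      pl (idl (Fitt.ideal (W C.D C.a) Ω[W C.D C.a⁄C.D] i)) (s ≫ j ≫ C.g) := by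
  rw [← pl_comap _ (j ≫ C.e) s, comap_chart p (j ≫ C.e) C.D (W C.D C.a) (j ≫ C.g)
    (Spec.map (CommRingCat.ofHom (algebraMap R C.D))) (by
      rw [Category.assoc, Category.assoc]
      exact congrArg (fun t => j ≫ t) C.w) i, pl_comap]

/-- The zeroth Fitting ideal of the differentials of a nodal family vanishes near the special fibre. -/
theorem pl_zero [QuasiSeparated p] [LocallyOfFiniteType p] (C : NChart R ϖ p x) (R' : Type u) [CommRing R']
    [IsLocalRing R'] (a : Spec (CommRingCat.of R') ⟶ X) (ha : a (closedPoint R') = x) :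
    pl (Fitt.sheafIdeal (Omega.sheaf p) 0) a = ⊥ := by
  obtain ⟨V, hV, hy, -⟩ := exists_isAffineOpen_mem_and_subset (x := C.y) (U := ⊤) trivial
  have : IsAffine V.toScheme := hV
  obtain ⟨T, _, φ, s, hs, hφ, -⟩ := exists_cover (V.ι ≫ C.e) ⟨C.y, hy⟩ R' a (ha.trans C.hy.symm)
  apply map_injective_of_faithfullyFlat hφ
  rw [← pl_comp, ← hs, pl_chart, fitt_zero, Ideal.map_bot]
  have h1 := Spec.map_preimage (s ≫ V.ι ≫ C.g)
  rw [← h1]
  exact (pl_idl _ _).trans Ideal.map_bot

/-- In the chart of the blow-up where the uniformizer generates the exceptional ideal, the first Fitting ideal of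
the differentials is divided by the uniformizer. -/
theorem pl_drop [QuasiSeparated p] [LocallyOfFiniteType p] (C : NChart R ϖ p x) {c : C.D} {X' : Scheme.{u}}
    {b : X' ⟶ X} {x' : X'} (B : BChart C c b x') [QuasiSeparated (b ≫ p)] [LocallyOfFiniteType (b ≫ p)]
    (hu : B.ψ (uu C.D C.a) = algebraMap _ _ C.t * uu C.D B.c')
    (hv : B.ψ (vv C.D C.a) = algebraMap _ _ C.t * vv C.D B.c') (R' : Type u) [CommRing R'] [IsLocalRing R']
    (ρ : R →+* R') (a : Spec (CommRingCat.of R') ⟶ X') (ha : a (closedPoint R') = x')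
    (hρ : a ≫ b ≫ p = Spec.map (CommRingCat.ofHom ρ)) :
    pl (Fitt.sheafIdeal (Omega.sheaf p) 1) (a ≫ b) =
      Ideal.span {ρ ϖ} * pl (Fitt.sheafIdeal (Omega.sheaf (b ≫ p)) 1) a := by
  obtain ⟨VU, hVU, hyU, -⟩ := exists_isAffineOpen_mem_and_subset (x := B.γ B.z) (U := ⊤) trivial
  obtain ⟨VP, hVP, hyP, hle⟩ := exists_isAffineOpen_mem_and_subset (x := B.z) (U := B.γ ⁻¹ᵁ VU) hyU
  have : IsAffine VU.toScheme := hVU
  have : IsAffine VP.toScheme := hVP
  obtain ⟨T, _, φ, s, hs, hφ, -⟩ := exists_cover (VP.ι ≫ B.α) ⟨B.z, hyP⟩ R' a (ha.trans B.hz.symm)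
  obtain ⟨γ', hγ'⟩ : ∃ γ' : VP.toScheme ⟶ VU.toScheme, γ' ≫ VU.ι = VP.ι ≫ B.γ :=
    ⟨IsOpenImmersion.lift VU.ι (VP.ι ≫ B.γ) (by
      rw [Scheme.Opens.range_ι]
      rintro _ ⟨y, rfl⟩
      rw [Scheme.Hom.comp_apply]
      exact hle y.2), IsOpenImmersion.lift_fac _ _ _⟩
  let τ : W C.D B.c' →+* T := (Spec.preimage (s ≫ VP.ι ≫ B.β)).hom
  have hτ : Spec.map (CommRingCat.ofHom τ) = s ≫ VP.ι ≫ B.β := Spec.map_preimage _
  -- the left hand side
  have h1 : (pl (Fitt.sheafIdeal (Omega.sheaf p) 1) (a ≫ b)).map φ =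
      (Ideal.span {uu C.D C.a, vv C.D C.a}).map (τ.comp B.ψ) := by
    have e1 : Spec.map (CommRingCat.ofHom φ) ≫ a ≫ b = (s ≫ γ') ≫ VU.ι ≫ C.e := by
      rw [← Category.assoc, ← hs, Category.assoc, Category.assoc, Category.assoc, ← Category.assoc γ', hγ',
        Category.assoc, B.hγe]
    have e2 : (s ≫ γ') ≫ VU.ι ≫ C.g = Spec.map (CommRingCat.ofHom (τ.comp B.ψ)) := by
      rw [CommRingCat.ofHom_comp, Spec.map_comp, hτ, Category.assoc, ← Category.assoc γ', hγ', Category.assoc,
        B.hγg, Category.assoc, Category.assoc]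
    rw [← pl_comp, e1, pl_chart, fitt_one, e2, pl_idl]
  have h2 : (pl (Fitt.sheafIdeal (Omega.sheaf (b ≫ p)) 1) a).map φ =
      (Ideal.span {uu C.D B.c', vv C.D B.c'}).map τ := by
    rw [← pl_comp, ← hs, ← pl_comap, comap_chart (b ≫ p) (VP.ι ≫ B.α) C.D (W C.D B.c') (VP.ι ≫ B.β)
      (Spec.map (CommRingCat.ofHom (algebraMap R C.D))) (by
        rw [Category.assoc, Category.assoc]
        exact congrArg (fun t => VP.ι ≫ t) B.w) 1, pl_comap, fitt_one, ← hτ, pl_idl]
  have h3 : τ (algebraMap C.D (W C.D B.c') C.t) = φ (ρ ϖ) := by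
    have h4 : Spec.map (CommRingCat.ofHom (φ.comp ρ)) =
        Spec.map (CommRingCat.ofHom ((τ.comp (algebraMap C.D (W C.D B.c'))).comp (algebraMap R C.D))) := by
      rw [CommRingCat.ofHom_comp, Spec.map_comp, CommRingCat.ofHom_comp, CommRingCat.ofHom_comp, Spec.map_comp,
        Spec.map_comp, hτ, ← hρ, ← Category.assoc, ← hs]
      simp only [Category.assoc]
      exact congrArg (fun t => s ≫ VP.ι ≫ t) B.w.symm
    have h5 := congrArg CommRingCat.Hom.hom (Spec.map_injective h4)
    exact (congr($h5 ϖ)).symm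
  apply map_injective_of_faithfullyFlat hφ
  rw [h1, Ideal.map_mul, h2, Ideal.map_span, Ideal.map_span, Ideal.map_span, Set.image_pair, Set.image_pair,
    Set.image_singleton, Ideal.span_mul_span', Set.singleton_mul, Set.image_pair, RingHom.comp_apply,
    RingHom.comp_apply, hu, hv, map_mul, map_mul, h3]

end Groth.Agent.SemiFact.K474.LocDrop
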