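import Groth.Agent.Divis.BlowChart
import Groth.Agent.Models.NodeStep

/-!
# The ideal of `T` induced by an ideal sheaf on `X` along a morphism `Spec T ⟶ X`
-/

set_option autoImplicit false
universe u

open CategoryTheory CategoryTheory.Limits AlgebraicGeometry

namespace Groth.Agent.SemiFact.K474.PullIdeal

open Groth.Agent.Divis.BlowChart Groth.Agent.Divis.IdealComap

variable {X Y : Scheme.{u}} {T : Type u} [CommRing T]

/-- The ideal of `T` induced by an ideal sheaf on `X` along a morphism `Spec T ⟶ X`. -/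
noncomputable def pl (F : X.IdealSheafData) (t : Spec (CommRingCat.of T) ⟶ X) : Ideal T :=
  ((F.comap t).ideal ⟨⊤, isAffineOpen_top _⟩).map (Scheme.ΓSpecIso (CommRingCat.of T)).hom.hom

theorem map_map_id (I : Ideal Γ(Spec (CommRingCat.of T), ⊤)) :
    (I.map (Scheme.ΓSpecIso (CommRingCat.of T)).hom.hom).map (Scheme.ΓSpecIso (CommRingCat.of T)).inv.hom = I := by
  rw [Ideal.map_map, ← CommRingCat.hom_comp, Iso.hom_inv_id, CommRingCat.hom_id, Ideal.map_id]

theorem map_map_id' (I : Ideal T) :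
    (I.map (Scheme.ΓSpecIso (CommRingCat.of T)).inv.hom).map (Scheme.ΓSpecIso (CommRingCat.of T)).hom.hom = I := by
  rw [Ideal.map_map, ← CommRingCat.hom_comp, Iso.inv_hom_id, CommRingCat.hom_id, Ideal.map_id]

theorem comap_eq_idl (F : X.IdealSheafData) (t : Spec (CommRingCat.of T) ⟶ X) : F.comap t = idl (pl F t) := by
  refine ext_of_forall_mem fun x => ⟨⟨⊤, isAffineOpen_top _⟩, trivial, ?_⟩
  rw [idl, Scheme.IdealSheafData.ofIdealTop_ideal, pl, map_map_id]
  simp

theorem pl_comp (F : X.IdealSheafData) (t : Spec (CommRingCat.of T) ⟶ X) {T' : Type u} [CommRing T'] (φ : T →+* T') :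
    pl F (Spec.map (CommRingCat.ofHom φ) ≫ t) = (pl F t).map φ := by
  rw [pl, Scheme.IdealSheafData.comap_comp, comap_eq_idl F t, comap_idl_ideal, Ideal.map_map]
  congr 1
  have h := Scheme.ΓSpecIso_naturality (CommRingCat.ofHom φ)
  ext x
  change (Scheme.ΓSpecIso (CommRingCat.of T')).hom.hom (((Spec (CommRingCat.of T')).presheaf.map _).hom
    ((Spec.map (CommRingCat.ofHom φ)).appTop.hom ((Scheme.ΓSpecIso (CommRingCat.of T)).inv.hom x))) = φ x
  have h1 : ((Spec (CommRingCat.of T')).presheaf.map (homOfLE (le_top : (⊤ : (Spec (CommRingCat.of T')).Opens) ≤ ⊤)).op)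
      = 𝟙 _ := (Spec (CommRingCat.of T')).presheaf.map_id _
  rw [h1]
  have h2 := congr($(congrArg CommRingCat.Hom.hom h) ((Scheme.ΓSpecIso (CommRingCat.of T)).inv.hom x))
  simp only [CommRingCat.hom_comp, RingHom.comp_apply] at h2
  refine h2.trans ?_
  have h3 := congr($(congrArg CommRingCat.Hom.hom (Scheme.ΓSpecIso (CommRingCat.of T)).inv_hom_id) x)
  simp only [CommRingCat.hom_comp, RingHom.comp_apply] at h3
  rw [h3]
  rfl

theorem pl_comap (F : X.IdealSheafData) (g : Y ⟶ X) (t : Spec (CommRingCat.of T) ⟶ Y) :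
    pl (F.comap g) t = pl F (t ≫ g) := by
  rw [pl, pl, Scheme.IdealSheafData.comap_comp]

theorem pl_idl_id (I : Ideal T) : pl (idl I) (𝟙 _) = I := by
  rw [pl, Scheme.IdealSheafData.comap_id, idl, Scheme.IdealSheafData.ofIdealTop_ideal]
  have h1 : (Spec (CommRingCat.of T)).presheaf.map (homOfLE (le_top : (⊤ : (Spec (CommRingCat.of T)).Opens) ≤ ⊤)).op
      = 𝟙 _ := (Spec (CommRingCat.of T)).presheaf.map_id _
  rw [h1, CommRingCat.hom_id, Ideal.map_id, map_map_id']

theorem pl_idl {A : Type u} [CommRing A] (I : Ideal A) (φ : A →+* T) :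
    pl (idl I) (Spec.map (CommRingCat.ofHom φ)) = I.map φ := by
  have h := pl_comp (idl I) (𝟙 _) φ
  rwa [Category.comp_id, pl_idl_id] at h

theorem mem_support_iff (F : X.IdealSheafData) (t : Spec (CommRingCat.of T) ⟶ X) (z : Spec (CommRingCat.of T)) :
    t z ∈ F.support ↔ pl F t ≤ z.asIdeal := by
  rw [← Groth.Agent.Models.NodeStep.mem_support_idl, ← comap_eq_idl, Scheme.IdealSheafData.support_comap]
  rfl

end Groth.Agent.SemiFact.K474.PullIdeal
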