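import Groth.Agent.SemiFact.K474.LocDrop

/-!
# One blow-up of non-regular points of a nodal family, along a point with values in a local ring

`step`: either the blow-up is regular at the image of the closed point or the first Fitting ideal of the differentials
is divided by the uniformizer.
-/

set_option autoImplicit false
universe u

open CategoryTheory CategoryTheory.Limits AlgebraicGeometry IsLocalRing BlowUp

namespace Groth.Agent.SemiFact.K474.Step

open Groth.Agent.Divis.BlowChart Groth.Agent.Divis.IdealComap PullIdeal FitNode FitSpec LocDrop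
open Groth.Agent.Models.NodeRing Groth.Agent.Models.NodeBlow Groth.Agent.Models.NodeStep K793.Chart Groth.Agent.Models

variable {R : Type u} [CommRing R] [IsDomain R] [IsDiscreteValuationRing R] {ϖ : R} (hϖ : Irreducible ϖ)

include hϖ in
/-- Blow-up of a closed non-regular point. -/
theorem step_point {X : Scheme.{u}} [IsLocallyNoetherian X] (p : X ⟶ Spec (CommRingCat.of R)) [QuasiSeparated p]
    [LocallyOfFiniteType p] (hp : Curv2.IsNodalFamily p) (x : X) (hx : p x = closedPoint R)
    (hxc : IsClosed ({x} : Set X)) (hreg : ¬ IsRegularLocalRing (X.presheaf.stalk x)) {X' : Scheme.{u}}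
    [IsLocallyNoetherian X'] (b : X' ⟶ X)
    (hb : IsBlowUp b (Scheme.IdealSheafData.vanishingIdeal ⟨{x}, hxc⟩)) [QuasiSeparated (b ≫ p)]
    [LocallyOfFiniteType (b ≫ p)] (R' : Type u) [CommRing R'] [IsLocalRing R'] (ρ : R →+* R')
    (a : Spec (CommRingCat.of R') ⟶ X') (ha : b (a (closedPoint R')) = x)
    (hρ : a ≫ b ≫ p = Spec.map (CommRingCat.ofHom ρ)) :
    IsRegularLocalRing (X'.presheaf.stalk (a (closedPoint R'))) ∨
      pl (Fitt.sheafIdeal (Omega.sheaf p) 1) (a ≫ b) =
        Ideal.span {ρ ϖ} * pl (Fitt.sheafIdeal (Omega.sheaf (b ≫ p)) 1) a := by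
  obtain ⟨C⟩ := exists_nchart hϖ p hp x hx
  obtain ⟨c, hc, -⟩ := C.exists_c hreg
  have htm : algebraMap C.D (W C.D C.a) C.t ∈ (C.g C.y).asIdeal := by
    rw [C.t_mem_iff hϖ, C.hy]
    exact hx
  obtain ⟨B⟩ := exists_bchart C hreg htm c hc hxc b hb (a (closedPoint R')) ha
  have key : B.c' = C.t → IsRegularLocalRing (X'.presheaf.stalk (a (closedPoint R'))) := by
    intro h
    have h1 := stalk_isRegular_of_le_one C.t C.irr 1 le_rfl (by rw [h, pow_one]) (B.β B.z)
    have h2 := Groth.Agent.S0065.result B.α B.z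
    have h3 := Groth.Agent.S0065.result B.β B.z
    have h4 := h2.1 (h3.2 h1)
    have h5 : B.α.base B.z = a (closedPoint R') := B.hz
    rwa [h5] at h4
  cases B.hc with
  | u h hu hv => exact Or.inl (key h)
  | v h hv hu => exact Or.inl (key h)
  | t h hu hv => exact Or.inr (pl_drop C B hu hv R' ρ a rfl hρ)

/-- A morphism from the spectrum of a local ring factors through every open neighbourhood of the image of the closed
point. -/
theorem exists_lift_opens {X : Scheme.{u}} {R' : Type u} [CommRing R'] [IsLocalRing R']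
    (a : Spec (CommRingCat.of R') ⟶ X) (U : X.Opens) (h : a (closedPoint R') ∈ U) :
    ∃ a' : Spec (CommRingCat.of R') ⟶ U.toScheme, a' ≫ U.ι = a := by
  refine ⟨IsOpenImmersion.lift U.ι a ?_, IsOpenImmersion.lift_fac _ _ _⟩
  rw [Scheme.Opens.range_ι]
  rintro _ ⟨z, rfl⟩
  have h1 : z ⤳ closedPoint R' := specializes_closedPoint z
  exact (h1.map a.continuous).mem_open U.isOpen h

include hϖ in
/-- **One step**: blow-up of a closed subset `Z` which near `x` consists of the non-regular point `x`. -/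
theorem step {X : Scheme.{u}} [IsLocallyNoetherian X] (p : X ⟶ Spec (CommRingCat.of R)) [QuasiSeparated p]
    [LocallyOfFiniteType p] (hp : Curv2.IsNodalFamily p) (x : X) (hx : p x = closedPoint R)
    (Z : TopologicalSpace.Closeds X) (U : X.Opens) (hxU : x ∈ U) (hU : ∀ z ∈ U, z ∈ Z ↔ z = x)
    (hreg : ¬ IsRegularLocalRing (X.presheaf.stalk x)) {X' : Scheme.{u}} [IsLocallyNoetherian X'] (b : X' ⟶ X)
    (hb : IsBlowUp b (Scheme.IdealSheafData.vanishingIdeal Z)) [QuasiSeparated (b ≫ p)] [LocallyOfFiniteType (b ≫ p)]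
    (R' : Type u) [CommRing R'] [IsLocalRing R'] (ρ : R →+* R')
    (a : Spec (CommRingCat.of R') ⟶ X') (ha : b (a (closedPoint R')) = x)
    (hρ : a ≫ b ≫ p = Spec.map (CommRingCat.ofHom ρ)) :
    IsRegularLocalRing (X'.presheaf.stalk (a (closedPoint R'))) ∨
      pl (Fitt.sheafIdeal (Omega.sheaf p) 1) (a ≫ b) =
        Ideal.span {ρ ϖ} * pl (Fitt.sheafIdeal (Omega.sheaf (b ≫ p)) 1) a := by
  obtain ⟨a₀, ha₀⟩ := exists_lift_opens (a ≫ b) U (by
    have h : (a ≫ b) (closedPoint R') = x := ha
    rw [h]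
    exact hxU)
  let bU : pullback U.ι b ⟶ U.toScheme := pullback.fst U.ι b
  let ι' : pullback U.ι b ⟶ X' := pullback.snd U.ι b
  let aU : Spec (CommRingCat.of R') ⟶ pullback U.ι b := pullback.lift a₀ a ha₀
  have haU : aU ≫ ι' = a := pullback.lift_snd _ _ _
  have haU' : aU ≫ bU = a₀ := pullback.lift_fst _ _ _
  have hcomm : bU ≫ U.ι = ι' ≫ b := pullback.condition
  let xU : U.toScheme := ⟨x, hxU⟩
  have hxc : IsClosed ({xU} : Set U.toScheme) := by
    have h1 : ({xU} : Set U.toScheme) = U.ι ⁻¹' (Z : Set X) := by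
      ext z
      rw [Set.mem_singleton_iff, Set.mem_preimage, SetLike.mem_coe]
      refine Iff.trans ?_ (hU _ z.2).symm
      exact ⟨fun h => by rw [h], fun h => Subtype.ext h⟩
    rw [h1]
    exact Z.isClosed.preimage U.ι.continuous
  have hbU : IsBlowUp bU (Scheme.IdealSheafData.vanishingIdeal ⟨{xU}, hxc⟩) := by
    have h1 := Groth.Agent.S1680.result U.ι _ b hb
    rw [EtRadical.comap_vanishingIdeal U.ι] at h1
    have h2 : Z.preimage U.ι.continuous = ⟨{xU}, hxc⟩ := by
      ext z
      simp only [TopologicalSpace.Closeds.coe_preimage, Set.mem_preimage, SetLike.mem_coe,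
        TopologicalSpace.Closeds.coe_mk, Set.mem_singleton_iff]
      refine (hU _ z.2).trans ?_
      exact ⟨fun h => Subtype.ext h, fun h => by rw [h]⟩
    rwa [h2] at h1
  have hXU : IsLocallyNoetherian U.toScheme := inferInstance
  have hX' : IsLocallyNoetherian (pullback U.ι b) := isLocallyNoetherian_of_isOpenImmersion ι'
  have h1 : bU ≫ U.ι ≫ p = ι' ≫ b ≫ p := by rw [← Category.assoc, hcomm, Category.assoc]
  have hq : QuasiSeparated (bU ≫ U.ι ≫ p) := by rw [h1]; infer_instance
  have hl : LocallyOfFiniteType (bU ≫ U.ι ≫ p) := by rw [h1]; infer_instance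
  have hregU : ¬ IsRegularLocalRing (U.toScheme.presheaf.stalk xU) := by
    intro h
    exact hreg ((Groth.Agent.S0065.result U.ι xU).1 h)
  have hbx : bU (aU (closedPoint R')) = xU := by
    apply Subtype.ext
    have h2 : (bU ≫ U.ι) (aU (closedPoint R')) = (aU ≫ ι' ≫ b) (closedPoint R') := by
      rw [hcomm]
      rfl
    rw [reassoc_of% haU] at h2
    exact h2.trans ha
  have hρU : aU ≫ bU ≫ U.ι ≫ p = Spec.map (CommRingCat.ofHom ρ) := by
    rw [h1, reassoc_of% haU, hρ]
  have key := step_point hϖ (U.ι ≫ p) (Groth.Agent.S1592.result p hp U.ι) xU hx hxc hregU bU hbU R' ρ aU hbx hρU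
  have e1 : aU ≫ bU ≫ U.ι = a ≫ b := by
    rw [hcomm, reassoc_of% haU]
  have h3 := comap_etale p (U.ι ≫ p) U.ι (𝟙 _) (by rw [Category.comp_id]) 1
  have h4 := comap_etale (b ≫ p) (bU ≫ U.ι ≫ p) ι' (𝟙 _) (by rw [h1, Category.comp_id]) 1
  rw [← h3, ← h4, pl_comap, pl_comap, haU, Category.assoc, e1] at key
  refine key.imp (fun h => ?_) id
  have h5 := (Groth.Agent.S0065.result ι' (aU (closedPoint R'))).1 h
  have h6 : ι'.base (aU (closedPoint R')) = a (closedPoint R') := by
    conv_rhs => rw [← haU]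
    rfl
  rwa [h6] at h5

end Groth.Agent.SemiFact.K474.Step
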