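import Groth.Agent.SemiFact.K474.Bound

/-!
# Termination: after finitely many blow-ups the closures of points of the generic fibre meet only regular points
-/

set_option autoImplicit false
universe u

open CategoryTheory CategoryTheory.Limits AlgebraicGeometry IsLocalRing BlowUp

namespace Groth.Agent.SemiFact.K474.Terminate

open PullIdeal Center Tower K793.Chart Bound

theorem regular_iff_of_notMem {X X' : Scheme.{u}} [IsLocallyNoetherian X] [IsLocallyNoetherian X'] {b : X' ⟶ X}
    {I : X.IdealSheafData} (hb : IsBlowUp b I) (x' : X') (h : b x' ∉ I.support) :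
    IsRegularLocalRing (X'.presheaf.stalk x') ↔ IsRegularLocalRing (X.presheaf.stalk (b.base x')) := by
  have h0 := Groth.Agent.Ega2.BlowBasic.isOpenImmersion_offSupport hb
  have hx : x' ∈ Groth.Agent.Ega2.BlowBasic.offSupport (I.comap b) := by
    rw [Groth.Agent.Ega2.BlowBasic.mem_offSupport, Scheme.IdealSheafData.support_comap]
    exact h
  have h1 := Groth.Agent.S0065.result (Groth.Agent.Ega2.BlowBasic.offSupport (I.comap b)).ι ⟨x', hx⟩
  have h2 := Groth.Agent.S0065.result ((Groth.Agent.Ega2.BlowBasic.offSupport (I.comap b)).ι ≫ b) ⟨x', hx⟩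
  exact h1.symm.trans h2

variable {R : Type u} [CommRing R] [IsDomain R] [IsDiscreteValuationRing R] {X : Scheme.{u}}
  (f : X ⟶ Spec (CommRingCat.of R))

/-- Along a point of the tower staying in the non-regular locus, each step divides the Fitting ideal by the
uniformizer. -/
theorem pl_tower [IsProper f] (hf : Curv2.IsNodalFamily f) {ϖ : R} (hϖ : Irreducible ϖ) (n : ℕ) (V : Type u)
    [CommRing V] [IsLocalRing V] (ρ : R →+* V) (a : Spec (CommRingCat.of V) ⟶ (tower f n).left)
    (hρ : a ≫ (tower f n).hom ≫ f = Spec.map (CommRingCat.ofHom ρ))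
    (hcl : ((tower f n).hom ≫ f) (a (closedPoint V)) = (closedPoint R : PrimeSpectrum R))
    (hreg : ¬ IsRegularLocalRing ((tower f n).left.presheaf.stalk (a (closedPoint V)))) :
    pl (Fitt.sheafIdeal (Omega.sheaf f) 1) (a ≫ (tower f n).hom) =
      Ideal.span {ρ ϖ} ^ n * pl (Fitt.sheafIdeal (Omega.sheaf ((tower f n).hom ≫ f)) 1) a := by
  induction n with
  | zero =>
    rw [pow_zero, one_mul]
    have h : (tower f 0).hom ≫ f = f := Category.id_comp f
    have h' : a ≫ (tower f 0).hom = a := Category.comp_id a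
    rw [h']
    exact congrArg (fun g => pl (Fitt.sheafIdeal (Omega.sheaf g) 1) a) h.symm
  | succ n ih =>
    obtain ⟨h1, h2⟩ := props f hf n
    obtain ⟨h1', h2'⟩ := props f hf (n + 1)
    have hN : IsLocallyNoetherian (tower f n).left := LocallyOfFiniteType.isLocallyNoetherian ((tower f n).hom ≫ f)
    have hN' : IsLocallyNoetherian (tower f (n + 1)).left :=
      LocallyOfFiniteType.isLocallyNoetherian ((tower f (n + 1)).hom ≫ f)
    have h4 : (tower f (n + 1)).hom ≫ f = bb f n ≫ (tower f n).hom ≫ f := by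
      rw [← bb_hom, Category.assoc]
    rw [h4] at h1' hρ hcl ⊢
    have hreg' : ¬ IsRegularLocalRing ((tower f n).left.presheaf.stalk (bb f n (a (closedPoint V)))) := by
      intro h
      refine hreg ((regular_iff_of_notMem (isBlowUp_bb f n) _ ?_).2 h)
      intro h5
      have h6 : bb f n (a (closedPoint V)) ∈ ((cen ((tower f n).hom ≫ f)).support : Set _) := h5
      rw [cen, Scheme.IdealSheafData.coe_support_vanishingIdeal] at h6
      change _ ∈ closure (nreg ((tower f n).hom ≫ f)) at h6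
      rw [closure_nreg _ h2] at h6
      exact h6.2 h
    have hx : ((tower f n).hom ≫ f) (bb f n (a (closedPoint V))) = (closedPoint R : PrimeSpectrum R) := hcl
    obtain ⟨U, hxU, hU⟩ := exists_nhd_nreg ((tower f n).hom ≫ f) h2 (bb f n (a (closedPoint V))) ⟨hx, hreg'⟩
    have hs := Step.step hϖ ((tower f n).hom ≫ f) h2 (bb f n (a (closedPoint V))) hx
      ⟨closure (nreg ((tower f n).hom ≫ f)), isClosed_closure⟩ U hxU hU hreg' (bb f n) (isBlowUp_bb f n) V ρ a rfl hρ
    rcases hs with h | h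
    · exact absurd h hreg
    · have h7 := ih (a ≫ bb f n) (by rw [Category.assoc]; exact hρ) hx hreg'
      rw [← bb_hom, ← Category.assoc a, h7, h, pow_succ, mul_assoc]

/-- **Termination.** -/
theorem exists_N [IsProper f] (hf : Curv2.IsNodalFamily f) (C : TopologicalSpace.Closeds X)
    (h : ∀ x, x ∈ (Fitt.sheafIdeal (Omega.sheaf f) 1).support → x ∈ C → f x = (closedPoint R : PrimeSpectrum R)) :
    ∃ N : ℕ, ∀ (P q : (tower f N).left), P ⤳ q → (tower f N).hom P ∈ C →
      ((tower f N).hom ≫ f) P ≠ (closedPoint R : PrimeSpectrum R) →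
      ((tower f N).hom ≫ f) q = (closedPoint R : PrimeSpectrum R) →
        IsRegularLocalRing ((tower f N).left.presheaf.stalk q) := by
  obtain ⟨ϖ, hϖ⟩ := IsDiscreteValuationRing.exists_irreducible R
  have hc : CompactSpace X := QuasiCompact.compactSpace_of_compactSpace f
  have hϖm : ϖ ∈ maximalIdeal R := by
    rw [hϖ.maximalIdeal_eq]
    exact Ideal.mem_span_singleton_self ϖ
  obtain ⟨N₀, hN₀⟩ := exists_bound f (Fitt.sheafIdeal (Omega.sheaf f) 1) C h ϖ hϖm
  refine ⟨N₀ + 1, fun P q hPq hPC hP hq => ?_⟩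
  by_contra hreg
  obtain ⟨V, _, _, _, a, ha1, ha2⟩ := exists_local_domain hPq
  let ρ : R →+* V := (Spec.preimage (a ≫ (tower f (N₀ + 1)).hom ≫ f)).hom
  have hρ : a ≫ (tower f (N₀ + 1)).hom ≫ f = Spec.map (CommRingCat.ofHom ρ) :=
    (Spec.map_preimage (a ≫ (tower f (N₀ + 1)).hom ≫ f)).symm
  have hq' : ((tower f (N₀ + 1)).hom ≫ f) (a (closedPoint V)) = (closedPoint R : PrimeSpectrum R) := by
    rw [ha1]; exact hq
  have hP' : ((tower f (N₀ + 1)).hom ≫ f) (a (⊥ : PrimeSpectrum V)) ≠ (closedPoint R : PrimeSpectrum R) := by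
    rw [ha2]; exact hP
  have h1 := pl_tower f hf hϖ (N₀ + 1) V ρ a hρ hq' (by rw [ha1]; exact hreg)
  have h2 := hN₀ V ρ (a ≫ (tower f (N₀ + 1)).hom) (by rw [Category.assoc]; exact hρ) (by
    rw [Scheme.Hom.comp_apply, ha2]
    exact hPC)
  rw [h1] at h2
  have h3 := Ideal.mul_le_left h2
  rw [Ideal.span_singleton_pow, Ideal.mem_span_singleton] at h3
  obtain ⟨v, hv⟩ := h3
  have h4 : (Spec.map (CommRingCat.ofHom ρ)) (closedPoint V) = (closedPoint R : PrimeSpectrum R) := by
    rw [← hρ]
    exact hq'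
  have h5 : ρ ϖ ∈ maximalIdeal V := by
    have h6 : (maximalIdeal V).comap ρ = maximalIdeal R := congrArg PrimeSpectrum.asIdeal h4
    rw [← h6] at hϖm
    exact hϖm
  have h7 : ρ ϖ ≠ 0 := by
    intro h8
    apply hP'
    have h9 : (Spec.map (CommRingCat.ofHom ρ)) (⊥ : PrimeSpectrum V) = (closedPoint R : PrimeSpectrum R) := by
      apply PrimeSpectrum.ext
      change (⊥ : Ideal V).comap ρ = maximalIdeal R
      symm
      refine (IsLocalRing.maximalIdeal.isMaximal R).eq_of_le ?_ ?_
      · exact Ideal.comap_ne_top _ bot_ne_top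
      · rw [hϖ.maximalIdeal_eq, Ideal.span_singleton_le_iff_mem, Ideal.mem_comap, Ideal.mem_bot]
        exact h8
    rw [← hρ] at h9
    exact h9
  have h10 : ρ ϖ ^ N₀ * (1 - ρ ϖ * v) = 0 := by
    rw [mul_sub, mul_one, ← mul_assoc, ← pow_succ, ← hv, sub_self]
  have h11 : IsUnit (1 - ρ ϖ * v) := by
    by_contra h12
    have h13 : 1 - ρ ϖ * v ∈ maximalIdeal V := h12
    have h14 : (1 : V) ∈ maximalIdeal V := by
      have := (maximalIdeal V).add_mem h13 ((maximalIdeal V).mul_mem_right v h5)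
      rwa [sub_add_cancel] at this
    exact (maximalIdeal.isMaximal V).ne_top ((Ideal.eq_top_iff_one _).2 h14)
  rw [h11.mul_left_eq_zero] at h10
  exact h7 (eq_zero_of_pow_eq_zero h10)

end Groth.Agent.SemiFact.K474.Terminate
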